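/-
Leading coefficients of commutators of fixed unipotent elements, simply laced case.

* `Simply D`: every commutator word has at most one term, with i = j = 1 and coefficient ±1.
* `tgt`, `cc`: that term; `gx_comm`.
* `coef_comm`: the coefficient at k = p + e of [g, x_e(v)] for g of level h.
* `coef_comm_prod`: the same for products of commuting root elements.
* `mem_Udel_of_conj_Upos`: a root-data lemma on descents.
-/
import Cfsg.Agent.Lib.TwistE6D4.Root
import Cfsg.Agent.Lib.RGD.NormalForm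

set_option autoImplicit false

namespace Cfsg.Agent.RGD.RootData

variable {Γ : Type*} [Group Γ] {Φ I : Type*} (R : RootData Γ Φ I)

/-- If `p` and its conjugate by `l` are positive and `l` makes the simple root `i` negative, then `p` has no
component at `i`. -/
theorem mem_Udel_of_conj_Upos {l : List I} {i : I} {p : Γ} (hp : p ∈ R.Upos)
    (hp' : R.nw l * p * (R.nw l)⁻¹ ∈ R.Upos) (h : ¬ R.pos (R.ww l (R.simple i))) : p ∈ R.Udel i := by
  obtain ⟨k₀, hk₀, a, ha, rfl⟩ := R.exists_Upos (i := i) hp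
  obtain ⟨l'', -, k, hk, e⟩ := R.exists_shorter h
  have hpos : R.pos (R.ww l'' (R.simple i)) := by
    rw [← R.pos_ww_congr hk e, ww_append, ww_cons, ww_nil, R.w_simple, R.ww_neg, R.pos_neg]
    exact h
  set k' := (R.n i)⁻¹ * k₀ * R.n i
  set y := (R.n i)⁻¹ * a * R.n i
  have hy : y ∈ R.U (R.neg (R.simple i)) := R.conj_n_simple' ha
  obtain ⟨P, -, hP', M, hM, eM⟩ := R.exists_split l'' (R.Udel_le_Upos i (R.Udel_conj_n' i hk₀) : k' ∈ R.Upos)
  have e' : R.nw l = k * R.nw l'' * (R.n i)⁻¹ := by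
    rw [← e, nw_append, nw_cons, nw_nil]; group
  have h1 : R.nw l'' * (M * y) * (R.nw l'')⁻¹ ∈ R.Upos := by
    have h2 : k⁻¹ * (R.nw l * (k₀ * a) * (R.nw l)⁻¹) * k ∈ R.Upos := by
      simpa [Upos] using R.H_conj_span _ (inv_mem hk) _ hp'
    rw [show k⁻¹ * (R.nw l * (k₀ * a) * (R.nw l)⁻¹) * k =
      (R.nw l'' * P * (R.nw l'')⁻¹) * (R.nw l'' * (M * y) * (R.nw l'')⁻¹) by
        rw [e', show k₀ * a = R.n i * (k' * y) * (R.n i)⁻¹ by simp only [k', y]; group, eM]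
        group] at h2
    exact (Subgroup.mul_mem_cancel_left _ hP').1 h2
  have h3 : R.nw l'' * (M * y) * (R.nw l'')⁻¹ ∈ R.Vneg := by
    rw [show R.nw l'' * (M * y) * (R.nw l'')⁻¹ =
      R.nw l'' * M * (R.nw l'')⁻¹ * (R.nw l'' * y * (R.nw l'')⁻¹) by group]
    refine mul_mem (R.conj_Uminus _ _ hM) (R.U_le_Vneg ?_ (R.conj_U_mem (R.map_conj_U l'' _) hy))
    rw [R.ww_neg, R.pos_neg, not_not]
    exact hpos
  have h4 : M * y = 1 := by
    rw [← conj_eq_one_iff (a := R.nw l''), ← Subgroup.mem_bot, ← R.B_inf_V]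
    exact ⟨R.Upos_le_B h1, h3⟩
  have h5 : y = 1 := by
    rw [← Subgroup.mem_bot, ← R.B_inf_V]
    refine ⟨R.Upos_le_B ?_, R.U_le_Vneg (by rw [R.pos_neg, not_not]; exact R.pos_simple i) hy⟩
    rw [eq_inv_of_mul_eq_one_right h4]
    exact inv_mem (R.Uminus_le_Upos _ hM)
  have h6 : a = 1 := by
    have := congrArg (fun z => R.n i * z * (R.n i)⁻¹) h5
    simpa [y, mul_assoc] using this
  simpa [h6] using hk₀

end Cfsg.Agent.RGD.RootData

namespace Cfsg.Agent.TwistE6D4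

open Cfsg.Lie Cfsg.Lie.ChevalleyDatum Cfsg.Agent.Chev
open Cfsg.Agent.ChevSt (IsLin)

variable {D : ChevalleyDatum} {K : Type*} [Field K]

/-- Every commutator word has at most one term, linear in both parameters, with coefficient ±1. -/
def Simply (D : ChevalleyDatum) : Prop :=
  ∀ r < D.nroots, ∀ s < D.nroots, (D.commTerms r s).length ≤ (if s = r then 0 else 1) ∧
    ∀ τ ∈ D.commTerms r s, τ.2.1 * τ.2.1 = 1 ∧ τ.2.2.1 = 1 ∧ τ.2.2.2 = 1

/-- The root of the commutator term. -/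
def tgt (D : ChevalleyDatum) (r s : ℕ) : Option ℕ := (D.commTerms r s).head?.map Prod.fst

/-- Its coefficient. -/
def cc (D : ChevalleyDatum) (r s : ℕ) : ℤ := ((D.commTerms r s).head?.map fun τ => τ.2.1).getD 0

/-- The commutator term. -/
def Wd (hD : Good D) (r s : ℕ) (x : K) : GL D.Idx K :=
  match tgt D r s with
  | some k => gx hD K k ((cc D r s : K) * x)
  | none => 1

theorem gx_comm (hD : Good D) (hS : Simply D) {r s : ℕ} (hr : r < D.nroots) (hs : s < D.nroots)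
    (hneg : s ≠ D.neg r) (t u : K) :
    gx hD K r t * gx hD K s u * (gx hD K r t)⁻¹ = gx hD K s u * Wd hD r s (t * u) := by
  obtain ⟨hlen, hterm⟩ := hS r hr s hs
  by_cases hsr : s = r
  · subst hsr
    rw [if_pos rfl] at hlen
    have h0 : D.commTerms s s = [] := List.eq_nil_of_length_eq_zero (by omega)
    rw [gx_inv, ← gx_add, ← gx_add, show t + u + -t = u by ring]
    simp [Wd, tgt, h0]
  rw [if_neg hsr] at hlen
  have key := hD.commutator (F := K) hr hs hsr hneg (-t) u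
  refine Units.ext ?_
  rw [gx_inv, Units.val_mul, Units.val_mul, Units.val_mul, coe_gx, coe_gx, coe_gx, mul_assoc, key,
    ← mul_assoc, ← mul_assoc, hD.x_add hr, add_neg_cancel, hD.x_zero, one_mul]
  congr 1
  rcases hd : D.commTerms r s with _ | ⟨τ, L⟩
  · simp [Wd, tgt, hd, ChevalleyDatum.commWord, ChevalleyDatum.wordMat]
  · rw [hd] at hlen hterm
    have hL : L = [] := List.eq_nil_of_length_eq_zero (by simpa using hlen)
    subst hL
    obtain ⟨-, h1, h2⟩ := hterm τ (List.mem_cons_self ..)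
    simp [Wd, tgt, cc, hd, ChevalleyDatum.commWord, ChevalleyDatum.wordMat, h1, h2, mul_assoc]

theorem tgt_spec (hD : Good D) {f : ℕ → ℤ} (hf : IsLin D f) (hS : Simply D) {r s k : ℕ} (hr : r < D.nroots)
    (hs : s < D.nroots) (hneg : s ≠ D.neg r) (h : tgt D r s = some k) :
    k < D.nroots ∧ f k = f r + f s ∧ cc D r s * cc D r s = 1 := by
  obtain ⟨hlen, hterm⟩ := hS r hr s hs
  obtain ⟨τ, hτ, rfl⟩ : ∃ τ, (D.commTerms r s).head? = some τ ∧ τ.1 = k := by
    simpa [tgt, Option.map_eq_some_iff] using h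
  have hm : τ ∈ D.commTerms r s := List.mem_of_head? hτ
  have hsr : s ≠ r := by
    rintro rfl
    rw [if_pos rfl] at hlen
    rw [List.eq_nil_of_length_eq_zero (by omega : (D.commTerms s s).length = 0)] at hm
    exact List.not_mem_nil hm
  obtain ⟨h1, -, -, h4⟩ := hf.commTerms hD hr hs hsr hneg hm
  obtain ⟨h2, h5, h6⟩ := hterm τ hm
  refine ⟨h1, ?_, by simp [cc, hτ, h2]⟩
  rw [h4, h5, h6]
  simp

namespace Ctx

variable (C : Ctx D K)

/-- The positive part of level at least h. -/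
abbrev Lv (h : ℕ) : Subgroup (GL D.Idx K) := lev C.hD K C.T.ht C.posSet h

theorem Lv_one : C.Lv 1 = UT C.hD K C.posSet := lev_one C.hD C.posSet_ok.closed

theorem Lv_le {h : ℕ} : C.Lv h ≤ UT C.hD K C.posSet := UT_mono C.hD fun _ hq => hq.1

theorem coef_add {h q : ℕ} (hh : 1 ≤ h) (hq : q < D.nroots) (hfq : C.T.ht q = h) {g g' : GL D.Idx K}
    (hg : g ∈ C.Lv h) (hg' : g' ∈ C.Lv h) : coef D q (g * g') = coef D q g + coef D q g' :=
  coef_mul C.hD C.hT.isLin_ht hq hh hfq (lev_le_Tri C.hD C.hT.isLin_ht C.posSet_ok.closed hh hg)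
    (lev_le_Tri C.hD C.hT.isLin_ht C.posSet_ok.closed hh hg')

theorem coef_high {h q : ℕ} (hh : 1 ≤ h) (hq : q < D.nroots) (hfq : C.T.ht q = h) {g : GL D.Idx K}
    (hg : g ∈ C.Lv (h + 1)) : coef D q g = 0 :=
  C.posSet_ok.coef_lev_succ C.hD ⟨hq, by omega⟩ hfq hh hg

theorem gx_mem_Lv {h q : ℕ} (hh : 1 ≤ h) (hq : q < D.nroots) (hfq : (h : ℤ) ≤ C.T.ht q) (u : K) :
    gx C.hD K q u ∈ C.Lv h :=
  gx_mem_lev C.hD (T := C.posSet) ⟨hq, by omega⟩ hfq u

/-- Conjugation by a positive element changes an element of level h only above h. -/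
theorem comm_Lv {h : ℕ} {a : GL D.Idx K} (ha : a ∈ UT C.hD K C.posSet) {y : GL D.Idx K} (hy : y ∈ C.Lv h) :
    a * y * a⁻¹ * y⁻¹ ∈ C.Lv (h + 1) := by
  have hcl := C.posSet_ok.closed
  have hf := C.hT.isLin_ht
  refine UT_induction C.hD hy (P := fun y => a * y * a⁻¹ * y⁻¹ ∈ C.Lv (h + 1)) (fun s hs v => ?_)
    (by simp [one_mem]) (fun b hb c _ pb pc => ?_)
  · refine UT_induction C.hD ha
      (P := fun a => a * gx C.hD K s v * a⁻¹ * (gx C.hD K s v)⁻¹ ∈ C.Lv (h + 1))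
      (fun r hr t => ?_) (by simp [one_mem]) (fun b hb c _ pb pc => ?_)
    · obtain ⟨w, hw, e⟩ := gx_swap (K := K) C.hD hf hcl (h := h) hr hs.1
        (by have := hr.2; have := hs.2; omega) (-t) v
      rw [gx_inv, _root_.neg_neg] at e
      rw [gx_inv C.hD r t, e]
      exact conj_lev_succ C.hD hf hcl (gx_mem_UT C.hD hs.1 v) w hw
    · have := mul_mem (conj_lev_succ C.hD hf hcl hb _ pc) pb
      convert this using 1
      group
  · have := mul_mem pb (conj_lev_succ C.hD hf hcl (UT_mono C.hD (fun _ hq => hq.1) hb) _ pc)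
    convert this using 1
    group

theorem conj_mem_Lv {h : ℕ} {a : GL D.Idx K} (ha : a ∈ UT C.hD K C.posSet) {y : GL D.Idx K}
    (hy : y ∈ C.Lv h) : a * y * a⁻¹ ∈ C.Lv h := by
  have := mul_mem (lev_anti C.hD C.T.ht C.posSet (Nat.le_succ h) (C.comm_Lv ha hy)) hy
  rwa [inv_mul_cancel_right] at this

theorem coef_conj {h q : ℕ} (hh : 1 ≤ h) (hq : q < D.nroots) (hfq : C.T.ht q = h) {a y : GL D.Idx K}
    (ha : a ∈ UT C.hD K C.posSet) (hy : y ∈ C.Lv h) : coef D q (a * y * a⁻¹) = coef D q y := by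
  have h1 := C.comm_Lv ha hy
  rw [show a * y * a⁻¹ = a * y * a⁻¹ * y⁻¹ * y by group,
    C.coef_add hh hq hfq (lev_anti C.hD C.T.ht C.posSet (Nat.le_succ h) h1) hy, C.coef_high hh hq hfq h1,
    zero_add]

theorem comm_mul {Γ : Type*} [Group Γ] (a b x : Γ) :
    a * b * x * (a * b)⁻¹ * x⁻¹ = a * (b * x * b⁻¹ * x⁻¹) * a⁻¹ * (a * x * a⁻¹ * x⁻¹) := by group

/-- The coefficient at k of the commutator with a root element. -/
theorem coef_comm (hS : Simply D) {h l : ℕ} (hh : 1 ≤ h) (hl : 1 ≤ l) {e k p₀ : ℕ} (he : e < D.nroots)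
    (hfe : C.T.ht e = l) (hk : k < D.nroots) (hfk : C.T.ht k = (h + l : ℕ)) (hp₀ : p₀ < D.nroots)
    (hfp : C.T.ht p₀ = h) (c : ℤ) (hc : tgt D p₀ e = some k → cc D p₀ e = c)
    (hc' : tgt D p₀ e ≠ some k → c = 0)
    (huniq : ∀ p < D.nroots, C.T.ht p = h → tgt D p e = some k → p = p₀)
    {g : GL D.Idx K} (hg : g ∈ C.Lv h) (v : K) :
    g * gx C.hD K e v * g⁻¹ * (gx C.hD K e v)⁻¹ ∈ C.Lv (h + l) ∧
      coef D k (g * gx C.hD K e v * g⁻¹ * (gx C.hD K e v)⁻¹) = (c : K) * coef D p₀ g * v := by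
  set x := gx C.hD K e v with hxdef
  have hxU : x ∈ UT C.hD K C.posSet := gx_mem_UT C.hD (T := C.posSet) ⟨he, by omega⟩ v
  refine UT_induction C.hD hg
    (P := fun g => g * x * g⁻¹ * x⁻¹ ∈ C.Lv (h + l) ∧
      coef D k (g * x * g⁻¹ * x⁻¹) = (c : K) * coef D p₀ g * v)
    (fun p hp t => ?_) ⟨by simp [one_mem], by simp [coef_one]⟩ (fun a ha b hb pa pb => ?_)
  · obtain ⟨⟨hp, hpp⟩, hfp'⟩ := hp
    have hne : e ≠ D.neg p := fun hh' => by
      rw [hh', C.hT.ht_neg p hp] at hfe; omega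
    rw [hxdef, gx_comm C.hD hS hp he hne, ← hxdef]
    have hcoef : coef D p₀ (gx C.hD K p t) = if p = p₀ then t else 0 :=
      coef_gx C.hD C.hT.isLin_ht hp₀ hp (by omega) (by omega) t
    rcases htg : tgt D p e with _ | k'
    · refine ⟨by simp [Wd, htg, one_mem], ?_⟩
      rw [hcoef]
      split_ifs with hpe
      · subst hpe
        simp [Wd, htg, coef_one, hc' (by rw [htg]; simp)]
      · simp [Wd, htg, coef_one]
    · obtain ⟨hk', hfk', -⟩ := tgt_spec C.hD C.hT.isLin_ht hS hp he hne htg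
      simp only [Wd, htg]
      have hW : gx C.hD K k' ((cc D p e : K) * (t * v)) ∈ C.Lv (h + l) :=
        C.gx_mem_Lv (by omega) hk' (by push_cast; omega) _
      refine ⟨C.conj_mem_Lv hxU hW, ?_⟩
      rw [C.coef_conj (by omega) hk hfk hxU hW,
        coef_gx C.hD C.hT.isLin_ht hk hk' (by omega) (by omega) _, hcoef]
      by_cases hkk : k' = k
      · subst hkk
        have hph : C.T.ht p = h := by push_cast at hfk; omega
        obtain rfl := huniq p hp hph htg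
        rw [if_pos rfl, if_pos rfl, hc htg]
        ring
      · rw [if_neg hkk]
        split_ifs with hpe
        · subst hpe
          simp [hc' (by rw [htg]; simpa using hkk)]
        · simp
  · obtain ⟨pa1, pa2⟩ := pa
    obtain ⟨pb1, pb2⟩ := pb
    have haU : a ∈ UT C.hD K C.posSet := C.Lv_le ha
    rw [comm_mul]
    refine ⟨mul_mem (C.conj_mem_Lv haU pb1) pa1, ?_⟩
    rw [C.coef_add (by omega) hk hfk (C.conj_mem_Lv haU pb1) pa1, C.coef_conj (by omega) hk hfk haU pb1,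
      pa2, pb2, C.coef_add hh hp₀ hfp ha hb]
    ring

/-- The commutator with a product of root elements of one level. -/
theorem coef_comm_prod {ι : Type*} {h l k : ℕ} (hh : 1 ≤ h) (hl : 1 ≤ l) (hk : k < D.nroots)
    (hfk : C.T.ht k = (h + l : ℕ)) {g : GL D.Idx K} (F : ι → GL D.Idx K) (d : ι → K) :
    ∀ L : List ι, (∀ j ∈ L, F j ∈ C.Lv l ∧ g * F j * g⁻¹ * (F j)⁻¹ ∈ C.Lv (h + l) ∧
        coef D k (g * F j * g⁻¹ * (F j)⁻¹) = d j) →
      g * (L.map F).prod * g⁻¹ * (L.map F).prod⁻¹ ∈ C.Lv (h + l) ∧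
        coef D k (g * (L.map F).prod * g⁻¹ * (L.map F).prod⁻¹) = (L.map d).sum
  | [], _ => ⟨by simp [one_mem], by simp [coef_one]⟩
  | j :: L, hL => by
    obtain ⟨h1, h2, h3⟩ := hL j (List.mem_cons_self ..)
    obtain ⟨h4, h5⟩ := coef_comm_prod hh hl hk hfk F d L fun i hi => hL i (List.mem_cons_of_mem _ hi)
    have hU : F j ∈ UT C.hD K C.posSet := C.Lv_le h1
    rw [List.map_cons, List.prod_cons,
      show g * (F j * (L.map F).prod) * g⁻¹ * (F j * (L.map F).prod)⁻¹ = g * F j * g⁻¹ * (F j)⁻¹ *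
        (F j * (g * (L.map F).prod * g⁻¹ * (L.map F).prod⁻¹) * (F j)⁻¹) by group]
    refine ⟨mul_mem h2 (C.conj_mem_Lv hU h4), ?_⟩
    rw [C.coef_add (by omega) hk hfk h2 (C.conj_mem_Lv hU h4), C.coef_conj (by omega) hk hfk hU h4, h3, h5,
      List.map_cons, List.sum_cons]

/-- The coefficient at k of the commutator with an orbit element, when one root pair contributes. -/
theorem coef_comm_orb (hS : Simply D) {h l : ℕ} (hh : 1 ≤ h) (hl : 1 ≤ l) {s j₀ k p₀ : ℕ}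
    (hs : s ∈ C.T.reps) (hfs : C.T.ht s = l) (hj₀ : j₀ < C.T.len s) (hp₀ : p₀ < D.nroots)
    (hfp : C.T.ht p₀ = h) (htg : tgt D p₀ (C.T.rho^[j₀] s) = some k)
    (huniq : ∀ j < C.T.len s, ∀ p < D.nroots, C.T.ht p = h → tgt D p (C.T.rho^[j] s) = some k →
      j = j₀ ∧ p = p₀) {g : GL D.Idx K} (hg : g ∈ C.Lv h) (v : K) :
    g * orb C.hD C.T C.φ s v * g⁻¹ * (orb C.hD C.T C.φ s v)⁻¹ ∈ C.Lv (h + l) ∧
      coef D k (g * orb C.hD C.T C.φ s v * g⁻¹ * (orb C.hD C.T C.φ s v)⁻¹) =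
        (cc D p₀ (C.T.rho^[j₀] s) : K) * coef D p₀ g * cf C.T C.φ s v j₀ := by
  have hsl := (C.hT.rep_lt s hs).1
  have hlt : ∀ j, C.T.rho^[j] s < D.nroots := C.hT.iter_lt hsl
  have hht : ∀ j, C.T.ht (C.T.rho^[j] s) = l := fun j => by rw [C.hT.ht_iter hsl, hfs]
  have hne : C.T.rho^[j₀] s ≠ D.neg p₀ := fun e => by
    have h1 := hht j₀; rw [e, C.hT.ht_neg p₀ hp₀] at h1; omega
  obtain ⟨hk, hfk, -⟩ := tgt_spec C.hD C.hT.isLin_ht hS hp₀ (hlt j₀) hne htg
  have hfk' : C.T.ht k = (h + l : ℕ) := by rw [hfk, hfp, hht]; push_cast; rfl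
  have key := C.coef_comm_prod (g := g) hh hl hk hfk'
    (fun j => gx C.hD K (C.T.rho^[j] s) (cf C.T C.φ s v j))
    (fun j => if j = j₀ then (cc D p₀ (C.T.rho^[j₀] s) : K) * coef D p₀ g * cf C.T C.φ s v j else 0)
    (List.range (C.T.len s)) fun j hj => by
      refine ⟨C.gx_mem_Lv hl (hlt j) (hht j).ge _, ?_⟩
      have h1 := C.coef_comm hS hh hl (hlt j) (hht j) hk hfk' hp₀ hfp
        (if j = j₀ then cc D p₀ (C.T.rho^[j₀] s) else 0)
        (fun ht => by rw [if_pos (huniq j (List.mem_range.1 hj) p₀ hp₀ hfp ht).1,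
          (huniq j (List.mem_range.1 hj) p₀ hp₀ hfp ht).1])
        (fun ht => if_neg fun e => ht (by rw [e]; exact htg))
        (fun p hp hfp' ht => (huniq j (List.mem_range.1 hj) p hp hfp' ht).2) hg (cf C.T C.φ s v j)
      refine ⟨h1.1, h1.2.trans ?_⟩
      split_ifs <;> simp
  refine ⟨key.1, key.2.trans ?_⟩
  rw [← List.sum_toFinset _ List.nodup_range, List.toFinset_range, Finset.sum_ite_eq',
    if_pos (Finset.mem_range.2 hj₀)]

end Ctx

end Cfsg.Agent.TwistE6D4
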