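/-
Rational elements of a twisted group with a field involution, and the tables used for the maximality of
the subgroup they form.

* `frob`, `Rat`: the entrywise action of φ and its fixed points.
* `orb_rat_iff`, `orb_image`: orbit elements and their images under rational Weyl words.
* `SubOK`: the table conditions.
* `top_mem`, `rat_of_mem_pos`: elements of U in an overgroup without irrational short orbit elements.
-/
import Cfsg.Agent.Lib.TwistSubfield.Comm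
import Cfsg.Agent.Lib.TwistE6D4.Facts
import Cfsg.Agent.Lib.TwistE6D4.TwoGen

set_option autoImplicit false

namespace Cfsg.Agent.TwistE6D4

open Cfsg.Lie Cfsg.Lie.ChevalleyDatum Cfsg.Agent.Chev
open Stable (levProd levReps mem_levReps)

variable {D : ChevalleyDatum} {K : Type*} [Field K]

/-- One root pair (the i-th of r, the j-th of s) gives the leading commutator root. -/
abbrev Lead (T : Twist D) (r s i j : ℕ) : Prop :=
  (tgt D (T.rho^[i] r) (T.rho^[j] s)).isSome = true ∧ ∀ j' < T.len s, ∀ p < D.nroots, T.ht p = T.ht r →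
    tgt D p (T.rho^[j'] s) = tgt D (T.rho^[i] r) (T.rho^[j] s) → j' = j ∧ p = T.rho^[i] r

/-- The conditions for a negative long root and a simple orbit raising it. -/
abbrev RaiseAt (T : Twist D) (a b : ℕ) : Prop :=
  T.len b = 1 ∨ ∃ w ∈ T.reps, T.len w = 1 ∧ 0 < T.ht w ∧ w ≠ D.neg a ∧ (tgt D a w).isSome = true ∧
    ∀ e < D.nroots, tgt D a w = some e → 0 < T.ht e ∧ ∃ i < T.len b,
      (tgt D (T.rho^[i] b) e).isSome = true ∧
      (∀ p < D.nroots, T.ht p = 1 → tgt D p e = tgt D (T.rho^[i] b) e → p = T.rho^[i] b) ∧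
      ∀ c < D.nroots, T.ht c = T.ht w + 1 → tgt D a c ≠ tgt D (T.rho^[i] b) e

/-- The table conditions: θ is the highest root, r₀ the highest root with an orbit of two roots. -/
structure SubOK (T : Twist D) {m : ℕ} (node : Fin m → Fin D.rank) (θ r₀ : ℕ) : Prop where
  simply : Simply D
  theta_rep : θ ∈ T.reps ∧ T.len θ = 1 ∧ 0 < T.ht θ
  theta_max : ∀ q < D.nroots, T.ht q ≤ T.ht θ
  rzero_rep : r₀ ∈ T.reps ∧ T.len r₀ = 2 ∧ 0 < T.ht r₀
  len_le : ∀ r ∈ T.reps, T.len r = 1 ∨ T.len r = 2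
  top : ∀ q ∈ T.reps, T.ht r₀ ≤ T.ht q → q ≠ r₀ → T.len q = 1
  push : ∀ r ∈ T.reps, 0 < T.ht r → T.len r = 2 → r ≠ r₀ →
    ∃ s ∈ T.reps, 0 < T.ht s ∧ ∃ i < 2, ∃ j < T.len s, Lead T r s i j
  step : ∃ r ∈ T.reps, T.len r = 2 ∧ 0 < T.ht r ∧ ∃ e ∈ T.reps, T.len e = 1 ∧ 0 < T.ht e ∧
    ∃ i < 2, tgt D (T.rho^[i] r) e = some r₀ ∧ Lead T r e i 0
  raise : ∀ a ∈ T.reps, T.ht a < 0 → T.len a = 1 →
    ∃ b : Fin m, T.len (repT T (wF T (node b) a)) = 1 ∧ T.ht a < T.ht (wF T (node b) a) ∧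
      RaiseAt T a (D.simple (node b).val)
  reach : ∀ r ∈ T.reps, ∃ l : List (Fin m), repT T (wW T node l (if T.len r = 1 then θ else r₀)) = r
  negW : ∃ l : List (Fin m), NegW T node l

theorem fix_of_sign {F : Type*} [Field F] (φ : F →+* F) {c : ℤ} (hc : c * c = 1) {x : F}
    (h : φ ((c : F) * x) = (c : F) * x) : φ x = x := by
  have h0 : (c : F) ≠ 0 := by
    intro e
    have := congrArg (Int.cast : ℤ → F) hc
    simp [e] at this
  rw [map_mul, map_intCast] at h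
  exact mul_left_cancel₀ h0 h

theorem prod_mem_cancel {Γ : Type*} [Group Γ] (P : Subgroup Γ) {ι : Type*} (f : ι → Γ) :
    ∀ (L : List ι) {i₀ : ι}, L.Nodup → i₀ ∈ L → (∀ i ∈ L, i ≠ i₀ → f i ∈ P) → (L.map f).prod ∈ P → f i₀ ∈ P
  | [], _, _, h, _, _ => absurd h List.not_mem_nil
  | i :: L, i₀, hn, hi, hL, hp => by
    obtain ⟨hn1, hn2⟩ := List.nodup_cons.1 hn
    rw [List.map_cons, List.prod_cons] at hp
    rcases eq_or_ne i i₀ with rfl | hne
    · refine (Subgroup.mul_mem_cancel_right P ?_).1 hp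
      refine P.list_prod_mem fun x hx => ?_
      obtain ⟨j, hj, rfl⟩ := List.mem_map.1 hx
      exact hL j (List.mem_cons_of_mem _ hj) fun e => hn1 (e ▸ hj)
    · exact prod_mem_cancel P f L hn2 ((List.mem_cons.1 hi).resolve_left hne.symm)
        (fun j hj => hL j (List.mem_cons_of_mem _ hj))
        ((Subgroup.mul_mem_cancel_left P (hL i (List.mem_cons_self ..) hne)).1 hp)

namespace Ctx

variable (C : Ctx D K)

/-- The entrywise action of φ. -/
def frob : GL D.Idx K →* GL D.Idx K := Matrix.GeneralLinearGroup.map C.φ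

/-- The rational elements. -/
def Rat : Subgroup (GL D.Idx K) := MonoidHom.eqLocus C.frob (MonoidHom.id _)

theorem mem_Rat {g : GL D.Idx K} : g ∈ C.Rat ↔ C.frob g = g := Iff.rfl

theorem mem_Rat_iff {g : GL D.Idx K} :
    g ∈ C.Rat ↔ ∀ i j, C.φ ((g : Matrix D.Idx D.Idx K) i j) = (g : Matrix D.Idx D.Idx K) i j := by
  rw [mem_Rat]
  exact ⟨fun h i j => congrFun (congrFun (congrArg (fun x : GL D.Idx K => (x : Matrix D.Idx D.Idx K)) h) i) j,
    fun h => Units.ext (Matrix.ext h)⟩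

theorem frob_gx (r : ℕ) (t : K) : C.frob (gx C.hD K r t) = gx C.hD K r (C.φ t) := map_gx C.hD C.φ r t

theorem esgn_sq {r : ℕ} (hr : r < D.nroots) : ∀ i, esgn C.T r i * esgn C.T r i = 1
  | 0 => by simp [esgn]
  | i + 1 => by
    have h1 : esgn C.T r (i + 1) = esgn C.T r i * C.T.eps (C.T.rho^[i] r) := by
      simp [esgn, List.range_succ]
    rw [h1, mul_mul_mul_comm, esgn_sq hr i, C.hT.eps_sq _ (C.hT.iter_lt hr i), one_mul]

theorem frob_orb (r : ℕ) (t : K) :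
    C.frob (orb C.hD C.T C.φ r t) = orb C.hD C.T C.φ r (C.φ t) := by
  rw [orb, map_list_prod, List.map_map]
  refine congrArg List.prod (List.map_congr_left fun i _ => ?_)
  simp only [Function.comp_apply, C.frob_gx, cf, map_mul, map_intCast]
  rw [← Function.iterate_succ_apply' C.φ i t, Function.iterate_succ_apply]

theorem orb_rat_iff {r : ℕ} (hr : r ∈ C.T.reps) (t : K) :
    orb C.hD C.T C.φ r t ∈ C.Rat ↔ C.φ t = t := by
  rw [mem_Rat, C.frob_orb]
  exact ⟨fun h => C.orb_inj hr h, fun h => by rw [h]⟩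

theorem op_rat (a : Fin C.m) {t : K} (h : C.φ t = t) : C.op a t ∈ C.Rat := by
  rw [C.op_eq]; exact (C.orb_rat_iff (C.hR.rep_simple a) t).2 h

theorem om_rat (a : Fin C.m) {t : K} (h : C.φ t = t) : C.om a t ∈ C.Rat := by
  rw [C.om_eq]; exact (C.orb_rat_iff (C.hR.rep_negSimple a).1 t).2 h

theorem n_rat (a : Fin C.m) : C.rgd.n a ∈ C.Rat := by
  show C.ns a 1 ∈ C.Rat
  rw [C.ns_eq]
  exact mul_mem (mul_mem (C.op_rat a (map_one _)) (C.om_rat a (by simp))) (C.op_rat a (map_one _))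

theorem nw_rat (l : List (Fin C.m)) : C.rgd.nw l ∈ C.Rat := by
  induction l with
  | nil => exact one_mem _
  | cons a l ih => exact mul_mem (C.n_rat a) ih

theorem nw_mem_G0 (l : List (Fin C.m)) : C.rgd.nw l ∈ C.G0 := C.rgd_G ▸ C.rgd.N_le_G (C.rgd.nw_mem_N l)

theorem coef_rat {g : GL D.Idx K} (hg : g ∈ C.Rat) (q : ℕ) : C.φ (coef D q g) = coef D q g := by
  simp only [coef, map_sum, map_mul, map_intCast, Matrix.mulVec, dotProduct]
  refine Finset.sum_congr rfl fun i _ => congrArg _ (Finset.sum_congr rfl fun j _ => ?_)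
  rw [C.mem_Rat_iff.1 hg]
  congr 1
  rcases j with j | j
  · simp [ev]
  · simp only [ev, Sum.elim_inr]
    split_ifs <;> simp

theorem frob_mem_G0 {g : GL D.Idx K} (hg : g ∈ C.G0) : C.frob g ∈ C.G0 := by
  have : C.G0 ≤ C.G0.comap C.frob := by
    refine (Subgroup.closure_le _).2 ?_
    rintro g ⟨a, t, ht, rfl | rfl⟩
    all_goals
      have hφ : C.Pm a (C.φ t) := by
        unfold Pm at ht ⊢
        rw [← Function.iterate_succ_apply, Function.iterate_succ_apply', ht]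
    · show C.frob (C.op a t) ∈ C.G0
      rw [C.op_eq, C.frob_orb, ← C.op_eq]; exact C.op_mem_G0 a hφ
    · show C.frob (C.om a t) ∈ C.G0
      rw [C.om_eq, C.frob_orb, ← C.om_eq]; exact C.om_mem_G0 a hφ
  exact this hg

theorem pm_of_len {r : ℕ} {θ r₀ : ℕ} (hS : SubOK C.T C.node θ r₀) (hφ : ∀ t, C.φ (C.φ t) = t) (hr : r ∈ C.T.reps)
    {t : K} (h : C.T.len r = 2 ∨ C.φ t = t) : (⇑C.φ)^[C.T.len r] t = t := by
  rcases hS.len_le r hr with h1 | h1 <;> rw [h1]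
  · rcases h with h | h
    · omega
    · simpa using h
  · simpa using hφ t

theorem fix_of_len_one {r : ℕ} (h : C.T.len r = 1) {t : K} (ht : (⇑C.φ)^[C.T.len r] t = t) : C.φ t = t := by
  simpa [h] using ht

theorem orb_mem_G0 {θ r₀ : ℕ} (hS : SubOK C.T C.node θ r₀) {r : ℕ} (hr : r ∈ C.T.reps) {t : K}
    (ht : (⇑C.φ)^[C.T.len r] t = t) : orb C.hD C.T C.φ r t ∈ C.G0 := by
  obtain ⟨l, hl⟩ := hS.negW
  exact C.Uo_le_G0 hl ⟨r, hr⟩ (C.orb_mem_Uo hr ht)

/-- A rational Weyl word maps rational orbit elements onto rational orbit elements. -/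
theorem orb_image {P : Subgroup (GL D.Idx K)} {l : List (Fin C.m)}
    (hP : ∀ x ∈ P, C.rgd.nw l * x * (C.rgd.nw l)⁻¹ ∈ P) {r r' : ℕ} (hr : r ∈ C.T.reps)
    (e : repT C.T (wW C.T C.node l r) = r')
    (h : ∀ t, (⇑C.φ)^[C.T.len r] t = t → C.φ t = t → orb C.hD C.T C.φ r t ∈ P)
    {t : K} (ht : (⇑C.φ)^[C.T.len r'] t = t) (htf : C.φ t = t) : orb C.hD C.T C.φ r' t ∈ P := by
  obtain ⟨hlt, hv⟩ := C.ww_val l ⟨r, hr⟩
  rw [C.repOf_eq_repT, e] at hv
  have hr' : r' ∈ C.T.reps := hv ▸ (C.rgd.ww l ⟨r, hr⟩).2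
  have h1 : orb C.hD C.T C.φ r' t ∈ C.rgd.U (C.rgd.ww l ⟨r, hr⟩) := by
    show _ ∈ C.Uo _
    rw [hv]; exact C.orb_mem_Uo hr' ht
  rw [← C.rgd.map_conj_U] at h1
  obtain ⟨x, hx, ex⟩ := h1
  obtain ⟨t₁, ht₁, rfl⟩ := C.mem_Uo hr hx
  change C.rgd.nw l * orb C.hD C.T C.φ r t₁ * (C.rgd.nw l)⁻¹ = _ at ex
  rw [← ex]
  refine hP _ (h t₁ ht₁ ((C.orb_rat_iff hr t₁).1 ?_))
  rw [show orb C.hD C.T C.φ r t₁ = (C.rgd.nw l)⁻¹ * orb C.hD C.T C.φ r' t * C.rgd.nw l by rw [← ex]; group]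
  exact mul_mem (mul_mem (inv_mem (C.nw_rat l)) ((C.orb_rat_iff hr' t).2 htf)) (C.nw_rat l)

theorem rhocoef {r : ℕ} (hr : r ∈ C.T.reps) {h : ℕ} (hh : 1 ≤ h) (hfr : C.T.ht r = h) {g : GL D.Idx K}
    (hg : g ∈ C.Lv h) (hfix : g ∈ Fix C.hT C.φ) (i : ℕ) :
    coef D (C.T.rho^[i] r) g = cf C.T C.φ r (coef D r g) i :=
  C.posSet_ok.coef_iter C.hT C.hD C.φ hh ⟨(C.hT.rep_lt r hr).1, by omega⟩ hfr hg hfix i

theorem cf_fix {r : ℕ} (hr : r ∈ C.T.reps) {c : K} {i : ℕ}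
    (h : C.φ (cf C.T C.φ r c i) = cf C.T C.φ r c i) : C.φ c = c := by
  have h1 := fix_of_sign C.φ (C.esgn_sq (C.hT.rep_lt r hr).1 i) h
  rw [← Function.iterate_succ_apply' C.φ i c, Function.iterate_succ_apply] at h1
  exact (C.φ.injective.iterate i) h1

variable {θ r₀ : ℕ} (hS : SubOK C.T C.node θ r₀)
include hS

/-- The leading orbit element at the level of r₀. -/
theorem top_mem {P : Subgroup (GL D.Idx K)}
    (hP : ∀ r ∈ C.T.reps, 0 < C.T.ht r → C.T.len r = 1 → ∀ t, C.φ t = t → orb C.hD C.T C.φ r t ∈ P)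
    {g : GL D.Idx K} (hgP : g ∈ P) {h : ℕ} (hfr : C.T.ht r₀ = h) (hg : g ∈ C.Lv h)
    (hfix : g ∈ Fix C.hT C.φ) : orb C.hD C.T C.φ r₀ (coef D r₀ g) ∈ P := by
  have hh : 1 ≤ h := by have := hS.rzero_rep.2.2; omega
  have hsp := C.posSet_ok.split C.hT C.hD C.φ hh hg hfix
  set S' : Set ℕ := {q | q < D.nroots ∧ (h : ℤ) < C.T.ht q}
  have hS' : Stable C.T C.T.ht S' := by
    refine ⟨C.hT.isLin_ht, ⟨fun q hq => hq.1, fun q hq => by have := hq.2; omega,
      fun r hr s hs hsr τ hτ => ?_⟩, C.hT.ht_rho, fun q hq => ⟨C.hT.rho_lt q hq.1, by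
        rw [C.hT.ht_rho q hq.1]; exact hq.2⟩⟩
    have hneg : s ≠ D.neg r := fun e => by
      have h1 := hs.2; rw [e, C.hT.ht_neg r hr.1] at h1; have := hr.2; omega
    obtain ⟨h1, h4, h5, h6⟩ := C.hT.isLin_ht.commTerms C.hD hr.1 hs.1 hsr hneg hτ
    obtain ⟨-, hij, hij'⟩ := (hS.simply r hr.1 s hs.1).2 τ hτ
    refine ⟨h1, ?_⟩
    rw [h6, hij, hij']
    have := hr.2; have := hs.2
    push_cast; omega
  have hhi : (levProd C.hD C.φ C.T C.T.ht C.posSet h fun r => coef D r g)⁻¹ * g ∈ P := by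
    refine hS'.fix_le C.hT C.hD C.φ (fun r hr hrS t ht => ?_) ⟨UT_mono C.hD (fun q hq => ?_) hsp.1, hsp.2⟩
    · have hl : C.T.len r = 1 := hS.top r hr (by have := hrS.2; omega) fun e => by
        have := hrS.2; rw [e, hfr] at this; omega
      exact hP r hr (by have := hrS.2; omega) hl t (C.fix_of_len_one hl ht)
    · exact ⟨hq.1.1, by have h2 := hq.2; push_cast at h2; omega⟩
  have hlev : levProd C.hD C.φ C.T C.T.ht C.posSet h (fun r => coef D r g) ∈ P := by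
    have := mul_mem hgP (inv_mem hhi)
    rwa [_root_.mul_inv_rev, inv_inv, mul_inv_cancel_left] at this
  refine prod_mem_cancel P (fun r => orb C.hD C.T C.φ r (coef D r g))
    (levReps C.T C.T.ht C.posSet h).toList (Finset.nodup_toList _) (Finset.mem_toList.2
      (mem_levReps.2 ⟨hS.rzero_rep.1, ⟨(C.hT.rep_lt _ hS.rzero_rep.1).1, hS.rzero_rep.2.2⟩, hfr⟩))
    (fun r hr hne => ?_) hlev
  obtain ⟨a, b, c⟩ := mem_levReps.1 (Finset.mem_toList.1 hr)
  have hl := hS.top r a (by omega) hne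
  exact hP r a b.2 hl _ (C.fix_of_len_one hl (C.posSet_ok.coef_mem_par C.hT C.hD C.φ hh a b c hg hfix))

variable (hφ : ∀ t, C.φ (C.φ t) = t)
include hφ

variable {H : Subgroup (GL D.Idx K)} (hH : H ≤ C.G0) (hM : C.G0 ⊓ C.Rat ≤ H)
  (hno : ∀ c, orb C.hD C.T C.φ r₀ c ∈ H → C.φ c = c)
include hH hM hno

/-- Elements of U in the overgroup are rational. -/
theorem rat_of_mem_pos {g : GL D.Idx K} (hg : g ∈ UT C.hD K C.posSet) (hgH : g ∈ H) : g ∈ C.Rat := by
  obtain ⟨B, hB⟩ : ∃ B : ℕ, C.T.ht θ < B := ⟨(C.T.ht θ).toNat + 1, by omega⟩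
  have horb : ∀ r ∈ C.T.reps, ∀ t, C.φ t = t → orb C.hD C.T C.φ r t ∈ H := fun r hr t ht =>
    hM ⟨C.orb_mem_G0 hS hr (C.pm_of_len hS hφ hr (Or.inr ht)), (C.orb_rat_iff hr t).2 ht⟩
  suffices key : ∀ n h : ℕ, 1 ≤ h → B ≤ h + n → ∀ g ∈ C.Lv h, g ∈ H → g ∈ C.Rat from
    key B 1 le_rfl (by omega) g (C.Lv_one.symm ▸ hg) hgH
  intro n
  induction n with
  | zero =>
    intro h _ hBh g hg _
    have hbot : C.Lv h = ⊥ := by
      rw [eq_bot_iff]
      refine UT_le C.hD fun q hq t => ?_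
      have h1 := hS.theta_max q hq.1.1
      have h2 := hq.2
      omega
    rw [hbot, Subgroup.mem_bot] at hg
    rw [hg]; exact one_mem _
  | succ n ih =>
    intro h hh hBh g hg hgH
    have hfix := C.G0_le_Fix (hH hgH)
    have hcoef : ∀ r ∈ levReps C.T C.T.ht C.posSet h, C.φ (coef D r g) = coef D r g := by
      intro r hr
      obtain ⟨hr1, hr2, hr3⟩ := mem_levReps.1 hr
      rcases hS.len_le r hr1 with hl | hl
      · exact C.fix_of_len_one hl (C.posSet_ok.coef_mem_par C.hT C.hD C.φ hh hr1 hr2 hr3 hg hfix)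
      rcases eq_or_ne r r₀ with rfl | hne
      · exact hno _ (C.top_mem hS (fun r hr _ _ t ht => horb r hr t ht) hgH hr3 hg hfix)
      obtain ⟨s, hs, hs0, i, -, j, hj, hsome, huniq⟩ := hS.push r hr1 hr2.2 hl hne
      obtain ⟨k, hk⟩ := Option.isSome_iff_exists.1 hsome
      obtain ⟨l, hl'⟩ : ∃ l : ℕ, C.T.ht s = l := ⟨(C.T.ht s).toNat, by omega⟩
      have hp₀ := C.hT.iter_lt hr2.1 i
      obtain ⟨h1, h2⟩ := C.coef_comm_orb hS.simply hh (by omega) hs hl' hj hp₀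
        (by rw [C.hT.ht_iter hr2.1, hr3]) hk
        (fun j' hj' p hp hfp ht => huniq j' hj' p hp (by rw [hfp, hr3]) (by rw [ht, hk])) hg 1
      set x := orb C.hD C.T C.φ s (1 : K) with hx
      have hxH : x ∈ H := horb s hs 1 (map_one _)
      have hyH : g * x * g⁻¹ * x⁻¹ ∈ H := mul_mem (mul_mem (mul_mem hgH hxH) (inv_mem hgH)) (inv_mem hxH)
      have hyR : g * x * g⁻¹ * x⁻¹ ∈ C.Rat :=
        ih (h + 1) (by omega) (by omega) _ (lev_anti C.hD C.T.ht C.posSet (by omega) h1) hyH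
      have h3 := C.coef_rat hyR k
      rw [h2, cf, C.rhocoef hr1 hh hr3 hg hfix] at h3
      have hcc : cc D (C.T.rho^[i] r) (C.T.rho^[j] s) * cc D (C.T.rho^[i] r) (C.T.rho^[j] s) = 1 := by
        refine (tgt_spec C.hD C.hT.isLin_ht hS.simply hp₀ (C.hT.iter_lt (C.hT.rep_lt s hs).1 j) (fun e => ?_) hk).2.2
        have h4 := C.hT.ht_iter (C.hT.rep_lt s hs).1 j
        rw [e, C.hT.ht_neg _ hp₀, C.hT.ht_iter hr2.1] at h4
        omega
      refine C.cf_fix hr1 (i := i) (fix_of_sign C.φ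
        (c := cc D (C.T.rho^[i] r) (C.T.rho^[j] s) * esgn C.T s j) ?_ ?_)
      · rw [mul_mul_mul_comm, hcc, C.esgn_sq (C.hT.rep_lt s hs).1, one_mul]
      · rw [← RingHom.coe_pow, map_one, mul_one] at h3
        rw [Int.cast_mul, mul_right_comm]
        exact h3
    have hsp := C.posSet_ok.split C.hT C.hD C.φ hh hg hfix
    set p := levProd C.hD C.φ C.T C.T.ht C.posSet h fun r => coef D r g with hp
    have hpR : p ∈ C.Rat ⊓ H := by
      refine Subgroup.list_prod_mem _ fun x hx => ?_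
      obtain ⟨r, hr, rfl⟩ := List.mem_map.1 hx
      rw [Finset.mem_toList] at hr
      exact ⟨(C.orb_rat_iff (mem_levReps.1 hr).1 _).2 (hcoef r hr),
        horb r (mem_levReps.1 hr).1 _ (hcoef r hr)⟩
    have := ih (h + 1) (by omega) (by omega) _ hsp.1 (mul_mem (inv_mem hpR.2) hgH)
    simpa using mul_mem hpR.1 this

end Ctx

end Cfsg.Agent.TwistE6D4
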