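/-
Maximality of the rational points in a twisted group with a field involution.

* `rat_of_long`: a conjugate of a long root element in an overgroup without irrational short top element is
  rational.
* `eq_one_of_comm`: only 1 commutes with all rational orbit elements.
* `subfield_maximal`.
-/
import Cfsg.Agent.Lib.TwistSubfield.Rational

set_option autoImplicit false

namespace Cfsg.Agent.TwistE6D4

open Cfsg.Lie Cfsg.Lie.ChevalleyDatum Cfsg.Agent.Chev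
open Cfsg.Agent.RGD

variable {D : ChevalleyDatum} {K : Type*} [Field K]

namespace Ctx

variable (C : Ctx D K)

theorem conj_rat {g x : GL D.Idx K} (hg : g ∈ C.Rat) (h : g * x * g⁻¹ ∈ C.Rat) : x ∈ C.Rat := by
  rw [show x = g⁻¹ * (g * x * g⁻¹) * g by group]
  exact mul_mem (mul_mem (inv_mem hg) h) hg

/-- A fixed root is its own orbit. -/
theorem rep_of_fixed {q : ℕ} (hq : q < D.nroots) (h : C.T.rho q = q) :
    C.repOf q = q ∧ C.T.len q = 1 := by
  obtain ⟨h1, i, hi, e⟩ := C.repOf_spec hq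
  obtain ⟨-, hl, hper, -⟩ := C.hT.rep_lt _ h1
  have e1 : C.repOf q = q := by
    generalize C.repOf q = r at e hi hper ⊢
    subst e
    have h2 := Function.iterate_fixed h (C.T.len r - i)
    conv_lhs at h2 => rw [← Function.iterate_add_apply, Nat.sub_add_cancel hi.le, hper]
    exact h2
  refine ⟨e1, ?_⟩
  rw [e1] at h1 hl
  by_contra hne
  exact zero_ne_one (C.hT.rep_inj q h1 q h1 0 hl 1 (by omega) (by simp [h])).2

theorem wW_fixed {q : ℕ} (hq : q < D.nroots) (h : C.T.rho q = q) :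
    ∀ l : List (Fin C.m), wW C.T C.node l q < D.nroots ∧ C.T.rho (wW C.T C.node l q) = wW C.T C.node l q
  | [] => ⟨hq, h⟩
  | a :: l => by
    obtain ⟨h1, h2⟩ := wW_fixed hq h l
    refine ⟨C.wF_lt a h1, ?_⟩
    show C.T.rho (wF C.T (C.node a) (wW C.T C.node l q)) = _
    rw [← C.hR.wF_rho a _ h1, h2]
    rfl

/-- The image of an orbit element under a word. -/
theorem exists_image {l : List (Fin C.m)} {r r' : ℕ} (hr : r ∈ C.T.reps)
    (e : repT C.T (wW C.T C.node l r) = r') {t : K} (ht : (⇑C.φ)^[C.T.len r] t = t) :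
    r' ∈ C.T.reps ∧ ∃ t', (⇑C.φ)^[C.T.len r'] t' = t' ∧
      C.rgd.nw l * orb C.hD C.T C.φ r t * (C.rgd.nw l)⁻¹ = orb C.hD C.T C.φ r' t' := by
  obtain ⟨-, hv⟩ := C.ww_val l ⟨r, hr⟩
  rw [C.repOf_eq_repT, e] at hv
  have h1 : C.rgd.nw l * orb C.hD C.T C.φ r t * (C.rgd.nw l)⁻¹ ∈ C.Uo (C.rgd.ww l ⟨r, hr⟩).1 :=
    C.rgd.conj_U_mem (C.rgd.map_conj_U l ⟨r, hr⟩) (C.orb_mem_Uo hr ht)
  have hr' : r' ∈ C.T.reps := hv ▸ (C.rgd.ww l ⟨r, hr⟩).2
  rw [hv] at h1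
  exact ⟨hr', C.mem_Uo hr' h1⟩

theorem Udel_le_del (a : Fin C.m) : C.rgd.Udel a ≤ UT C.hD K (C.delSet a) := by
  refine C.rgd.span_le fun r hr => (inf_le_left : C.Uo r.1 ≤ _).trans (UT_mono C.hD fun q hq => ?_)
  obtain ⟨h1, h2⟩ := C.orbS_pos hq
  exact ⟨h1, h2 ▸ hr.1, fun h' =>
    hr.2 (Subtype.ext ((C.repOf_eq r.2 hq).symm.trans (C.repOf_eq (C.hR.rep_simple a) h')))⟩

theorem mem_UT_of_Upos {u : GL D.Idx K} (hu : u ∈ C.rgd.Upos) :
    u ∈ UT C.hD K C.posSet ∧ u ∈ Fix C.hT C.φ := by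
  rw [C.Upos_eq] at hu
  exact hu

theorem coef_Udel (a : Fin C.m) {g : GL D.Idx K} (hg : g ∈ C.rgd.Udel a) : coef D (C.p a) g = 0 := by
  have hd : ∀ q ∈ C.delSet a, q ∈ C.posSet := fun q hq => ⟨hq.1, hq.2.1⟩
  refine UT_induction C.hD (C.Udel_le_del a hg) (P := fun g => coef D (C.p a) g = 0) (fun q hq t => ?_)
    (coef_one _) (fun x hx y hy px py => ?_)
  · rw [coef_gx C.hD C.hT.isLin_ht (C.p_lt a) hq.1 (by rw [C.hR.ht_one]; norm_num)
      (by rw [C.hR.ht_one]; have := hq.2.1; omega), if_neg fun e => hq.2.2 ?_]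
    rw [e]; exact ⟨0, C.L_pos a, rfl⟩
  · rw [C.coef_add le_rfl (C.p_lt a) (C.hR.ht_one a) (C.Lv_one.symm ▸ UT_mono C.hD hd hx)
      (C.Lv_one.symm ▸ UT_mono C.hD hd hy), px, py, add_zero]

theorem coef_op (a : Fin C.m) (t : K) : coef D (C.p a) (orb C.hD C.T C.φ (C.p a) t) = t := by
  have hp : C.p a ∈ C.posSet := ⟨C.p_lt a, by rw [C.hR.ht_one]; norm_num⟩
  have h := C.posSet_ok.coef_orb C.hT C.hD C.φ (h := 1) le_rfl (C.hR.rep_simple a) (C.hR.rep_simple a)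
    hp hp (C.hR.ht_one a) (C.hR.ht_one a) t (i := 0) (C.L_pos a)
  rwa [if_pos rfl, cf_zero, Function.iterate_zero_apply] at h

/-- The coefficient of the commutator of a negative root element with a positive element. -/
theorem coef_comm_neg (hSim : Simply D) {a : ℕ} (ha : a < D.nroots) {h l k : ℕ} (hl : 1 ≤ l)
    (hal : C.T.ht a + h = l) (ha0 : C.T.ht a < 0) (hk : k < D.nroots) (hfk : C.T.ht k = l)
    (hno : ∀ c < D.nroots, C.T.ht c = h → tgt D a c ≠ some k) {g : GL D.Idx K} (hg : g ∈ C.Lv h) (t : K) :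
    gx C.hD K a t * g * (gx C.hD K a t)⁻¹ * g⁻¹ ∈ C.Lv l ∧
      coef D k (gx C.hD K a t * g * (gx C.hD K a t)⁻¹ * g⁻¹) = 0 := by
  set x := gx C.hD K a t with hx
  refine UT_induction C.hD hg
    (P := fun g => x * g * x⁻¹ * g⁻¹ ∈ C.Lv l ∧ coef D k (x * g * x⁻¹ * g⁻¹) = 0)
    (fun c hc v => ?_) (by simp [one_mem, coef_one]) (fun b hb d _ pb pd => ?_)
  · obtain ⟨⟨hc, hcp⟩, hfc⟩ := hc
    have hne : c ≠ D.neg a := fun e => by
      subst e
      rw [C.hT.ht_neg a ha] at hfc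
      omega
    rw [hx, gx_comm C.hD hSim ha hc hne]
    rcases htg : tgt D a c with _ | k'
    · simp [Wd, htg, one_mem, coef_one]
    · obtain ⟨hk', hfk', -⟩ := tgt_spec C.hD C.hT.isLin_ht hSim ha hc hne htg
      simp only [Wd, htg]
      have hU : gx C.hD K c v ∈ UT C.hD K C.posSet := gx_mem_UT C.hD (T := C.posSet) ⟨hc, hcp⟩ v
      have hW : gx C.hD K k' ((cc D a c : K) * (t * v)) ∈ C.Lv l := C.gx_mem_Lv hl hk' (by omega) _
      refine ⟨C.conj_mem_Lv hU hW, ?_⟩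
      rw [C.coef_conj hl hk hfk hU hW, coef_gx C.hD C.hT.isLin_ht hk hk' (by omega) (by omega) _,
        if_neg fun e => hno c hc (by rw [e] at hfk'; omega) (by rw [htg, e])]
  · obtain ⟨pb1, pb2⟩ := pb
    obtain ⟨pd1, pd2⟩ := pd
    have hbU : b ∈ UT C.hD K C.posSet := C.Lv_le hb
    rw [show x * (b * d) * x⁻¹ * (b * d)⁻¹ = x * b * x⁻¹ * b⁻¹ * (b * (x * d * x⁻¹ * d⁻¹) * b⁻¹) by group]
    refine ⟨mul_mem pb1 (C.conj_mem_Lv hbU pd1), ?_⟩
    rw [C.coef_add hl hk hfk pb1 (C.conj_mem_Lv hbU pd1), C.coef_conj hl hk hfk hbU pd1, pb2, pd2, add_zero]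

variable {θ r₀ : ℕ} (hS : SubOK C.T C.node θ r₀)
include hS

/-- Conjugates of the highest root elements. -/
theorem conj_theta {g : GL D.Idx K} (hg : g ∈ C.G0) {t : K} (ht : C.φ t = t) :
    ∃ a ∈ C.T.reps, C.T.len a = 1 ∧ ∃ u ∈ C.rgd.Upos, ∃ t', C.φ t' = t' ∧
      g * gx C.hD K θ t * g⁻¹ = u * gx C.hD K a t' * u⁻¹ := by
  obtain ⟨hθ, hθl, hθp⟩ := hS.theta_rep
  obtain ⟨b, hb, l, m, hm, rfl⟩ := C.rgd.exists_normalForm (g := g) (C.rgd_G ▸ hg)
  obtain ⟨u, hu, h, hh, rfl⟩ := C.rgd.exists_B hb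
  obtain ⟨H, hH⟩ : ∃ H : ℕ, C.T.ht θ = H := ⟨(C.T.ht θ).toNat, by omega⟩
  have hθlt := (C.hT.rep_lt θ hθ).1
  have hcen : m * gx C.hD K θ t * m⁻¹ = gx C.hD K θ t := by
    have h1 := C.comm_Lv (C.mem_UT_of_Upos (C.rgd.Uminus_le_Upos l hm)).1
      (C.gx_mem_Lv (h := H) (by omega) hθlt hH.ge t)
    rw [show C.Lv (H + 1) = ⊥ from lev_succ_eq_bot C.hD fun q hq => by
      have := hS.theta_max q hq.1; push_cast; omega, Subgroup.mem_bot, mul_inv_eq_one] at h1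
    exact h1
  set r : C.Orb := C.rgd.ww l ⟨θ, hθ⟩ with hr
  have hfix : C.T.rho θ = θ := by
    have := (C.hT.rep_lt θ hθ).2.2.1
    rwa [hθl, Function.iterate_one] at this
  have hrl : C.T.len r.1 = 1 := by
    obtain ⟨hlt, hfx⟩ := C.wW_fixed hθlt hfix l
    obtain ⟨e1, e2⟩ := C.rep_of_fixed hlt hfx
    rw [hr, (C.ww_val l ⟨θ, hθ⟩).2, e1, e2]
  have hmem : h * (C.rgd.nw l * gx C.hD K θ t * (C.rgd.nw l)⁻¹) * h⁻¹ ∈ C.Uo r.1 := by
    refine C.rgd.H_conj_U h hh r _ (C.rgd.conj_U_mem (C.rgd.map_conj_U l ⟨θ, hθ⟩) ?_)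
    rw [← C.orb_of_len_one hθl]
    exact C.orb_mem_Uo hθ (by rw [hθl]; exact ht)
  obtain ⟨t', ht', e⟩ := C.mem_Uo r.2 hmem
  refine ⟨r.1, r.2, hrl, u, hu, t', C.fix_of_len_one hrl ht', ?_⟩
  rw [← C.orb_of_len_one hrl, ← e]
  calc u * h * C.rgd.nw l * m * gx C.hD K θ t * (u * h * C.rgd.nw l * m)⁻¹
      = u * h * C.rgd.nw l * (m * gx C.hD K θ t * m⁻¹) * (u * h * C.rgd.nw l)⁻¹ := by group
    _ = _ := by rw [hcen]; group

/-- The commutator reaching the root r₀. -/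
theorem top_comm :
    ∃ r ∈ C.T.reps, C.T.len r = 2 ∧ ∃ e ∈ C.T.reps, C.T.len e = 1 ∧ 0 < C.T.ht e ∧ ∃ i : ℕ, ∃ c : ℤ, c * c = 1 ∧
      ∀ P : Subgroup (GL D.Idx K),
        (∀ q ∈ C.T.reps, 0 < C.T.ht q → C.T.len q = 1 → ∀ t, C.φ t = t → orb C.hD C.T C.φ q t ∈ P) →
        ∀ d v : K, (⇑C.φ)^[2] d = d → C.φ v = v →
          orb C.hD C.T C.φ r d * orb C.hD C.T C.φ e v * (orb C.hD C.T C.φ r d)⁻¹ *
            (orb C.hD C.T C.φ e v)⁻¹ ∈ P →
          orb C.hD C.T C.φ r₀ ((c : K) * (⇑C.φ)^[i] d * v) ∈ P := by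
  obtain ⟨r, hr, hrl, hrp, e, he, hel, hep, i, hi, htg, hlead⟩ := hS.step
  obtain ⟨h, hh⟩ : ∃ h : ℕ, C.T.ht r = h := ⟨(C.T.ht r).toNat, by omega⟩
  obtain ⟨l, hl⟩ : ∃ l : ℕ, C.T.ht e = l := ⟨(C.T.ht e).toNat, by omega⟩
  have hr' := (C.hT.rep_lt r hr).1
  have he' := (C.hT.rep_lt e he).1
  have hp₀ := C.hT.iter_lt hr' i
  have hfp : C.T.ht (C.T.rho^[i] r) = h := by rw [C.hT.ht_iter hr', hh]
  have hne : e ≠ D.neg (C.T.rho^[i] r) := fun e' => by
    rw [e', C.hT.ht_neg _ hp₀] at hl; omega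
  obtain ⟨-, hfk, hcc⟩ := tgt_spec C.hD C.hT.isLin_ht hS.simply hp₀ he' hne htg
  refine ⟨r, hr, hrl, e, he, hel, hep, i, cc D (C.T.rho^[i] r) e * esgn C.T r i,
    by rw [mul_mul_mul_comm, hcc, C.esgn_sq hr', one_mul], fun P hP d v hd hv hm => ?_⟩
  have hrS : r ∈ C.posSet := ⟨hr', hrp⟩
  have hg := C.posSet_ok.orb_mem_lev C.hT C.hD C.φ (h := h) hrS hh.ge d
  obtain ⟨-, huq⟩ := hlead
  obtain ⟨h1, h2⟩ := C.coef_comm_orb hS.simply (h := h) (l := l) (by omega) (by omega) he hl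
    (j₀ := 0) (by rw [hel]; norm_num) hp₀ hfp (k := r₀) htg
    (fun j hj p hp hfp' ht => huq j hj p hp (by rw [hfp', hh]) (by rw [ht]; exact htg.symm)) hg v
  have hfix : orb C.hD C.T C.φ r d * orb C.hD C.T C.φ e v * (orb C.hD C.T C.φ r d)⁻¹ *
      (orb C.hD C.T C.φ e v)⁻¹ ∈ Fix C.hT C.φ := by
    have h3 := orb_mem_Fix C.hT C.hD hr (t := d) (φ := C.φ) (by rw [hrl]; exact hd)
    have h4 := orb_mem_Fix C.hT C.hD he (t := v) (φ := C.φ) (by rw [hel]; exact hv)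
    exact mul_mem (mul_mem (mul_mem h3 h4) (inv_mem h3)) (inv_mem h4)
  have key := C.top_mem hS hP hm (by rw [hfk, hfp, hl]; push_cast; rfl) h1 hfix
  rw [h2, C.posSet_ok.coef_orb C.hT C.hD C.φ (by omega) hr hr hrS hrS hh hh d (by omega), if_pos rfl,
    cf_zero, Function.iterate_zero_apply, cf] at key
  rwa [Int.cast_mul, mul_assoc (cc D (C.T.rho^[i] r) e : K) (esgn C.T r i : K)]

/-- Only 1 commutes with all rational orbit elements. -/
theorem eq_one_of_comm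
    (hc : ∀ s < D.nroots, ∀ j : Fin D.rank, D.cartan j.val s =
      ∑ k : Fin D.rank, (D.coroot.getD s #[]).getD k.val 0 * D.cartan j.val (D.simple k.val))
    {z : GL D.Idx K} (hz : z ∈ C.G0)
    (hcomm : ∀ r ∈ C.T.reps, ∀ t, C.φ t = t → Commute z (orb C.hD C.T C.φ r t)) : z = 1 := by
  have hop : ∀ a, Commute z (C.op a 1) := fun a => by
    rw [C.op_eq]; exact hcomm _ (C.hR.rep_simple a) 1 (map_one _)
  have hn : ∀ a, Commute z (C.rgd.n a) := fun a => by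
    show Commute z (C.ns a 1)
    rw [C.ns_eq]
    refine ((hop a).mul_right ?_).mul_right (hop a)
    rw [C.om_eq]; exact hcomm _ (C.hR.rep_negSimple a).1 _ (by simp)
  have hnw : ∀ l, Commute z (C.rgd.nw l) := fun l => by
    induction l with
    | nil => exact Commute.one_right _
    | cons a l ih => exact (hn a).mul_right ih
  have key : ∀ n : ℕ, ∀ l : List (Fin C.m), l.length = n → ∀ b ∈ C.rgd.B, ∀ m ∈ C.rgd.Uminus l,
      z = b * C.rgd.nw l * m → z ∈ C.rgd.B := by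
    intro n
    induction n using Nat.strong_induction_on with
    | _ n ih =>
      intro l hln b hb m hm e
      rcases List.eq_nil_or_concat' l with rfl | ⟨l', j, rfl⟩
      · rw [e, RootData.nw_nil, mul_one]
        exact mul_mem hb (C.rgd.Upos_le_B (C.rgd.Uminus_le_Upos _ hm))
      by_cases hj : C.rgd.pos (C.rgd.ww l' (C.rgd.simple j))
      · exfalso
        have hneg : ¬ C.rgd.pos (C.rgd.ww (l' ++ [j]) (C.rgd.simple j)) := by
          rw [RootData.ww_append, RootData.ww_cons, RootData.ww_nil, C.rgd.w_simple, C.rgd.ww_neg,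
            C.rgd.pos_neg, not_not]
          exact hj
        set x := C.op j 1 with hx
        have hxU : x ∈ C.rgd.Upos := C.rgd.U_le_Upos (C.rgd.pos_simple j) (C.op_mem_Uo j (C.Pm_one j))
        have hmU : m ∈ C.rgd.Upos := C.rgd.Uminus_le_Upos _ hm
        obtain ⟨u, hu, h, hh, rfl⟩ := C.rgd.exists_B hb
        have e2 : C.rgd.nw (l' ++ [j]) * (m * x * m⁻¹) * (C.rgd.nw (l' ++ [j]))⁻¹ =
            h⁻¹ * (u⁻¹ * x * u) * h := by
          have := (hop j).eq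
          rw [e, ← hx] at this
          calc _ = (u * h)⁻¹ * (u * h * C.rgd.nw (l' ++ [j]) * m * x) *
                (m⁻¹ * (C.rgd.nw (l' ++ [j]))⁻¹) := by group
            _ = _ := by rw [this]; group
        have hp := C.rgd.mem_Udel_of_conj_Upos (mul_mem (mul_mem hmU hxU) (inv_mem hmU)) (by
          rw [e2]
          simpa [RootData.Upos] using C.rgd.H_conj_span _ (inv_mem hh) _
            (mul_mem (mul_mem (inv_mem hu) hxU) hu)) hneg
        have h0 := C.coef_Udel j hp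
        rw [C.coef_conj le_rfl (C.p_lt j) (C.hR.ht_one j) (C.mem_UT_of_Upos hmU).1
          (C.Lv_one.symm ▸ (C.mem_UT_of_Upos hxU).1), hx, C.op_eq, C.coef_op] at h0
        exact one_ne_zero h0
      · obtain ⟨l'', hlen, k, hk, ek⟩ := C.rgd.exists_shorter hj
        refine ih l''.length (by subst hln; simp; omega) l'' rfl (b * k)
          (mul_mem hb (C.rgd.H_le_B hk)) m ((C.rgd.Uminus_congr hk ek) ▸ hm) ?_
        rw [e, ek]; group
  obtain ⟨b, hb, l, m, hm, e⟩ := C.rgd.exists_normalForm (g := z) (C.rgd_G ▸ hz)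
  obtain ⟨u, hu, h, hh, hzu⟩ := C.rgd.exists_B (key _ l rfl b hb m hm e)
  obtain ⟨l₀, hl₀⟩ := hS.negW
  set n₀ := C.rgd.nw l₀
  have hu1 : u = 1 := by
    rw [← conj_eq_one_iff (a := n₀), ← Subgroup.mem_bot, ← C.rgd.B_inf_V]
    refine Subgroup.mem_inf.2 ⟨(?_ : _ ∈ C.rgd.B), (?_ : _ ∈ C.rgd.Vneg)⟩
    · have h1 : n₀ * u * n₀⁻¹ = u * h * (n₀ * h * n₀⁻¹)⁻¹ :=
        calc n₀ * u * n₀⁻¹ = n₀ * (u * h) * n₀⁻¹ * (n₀ * h * n₀⁻¹)⁻¹ := by group
          _ = _ := by rw [← hzu, ← (hnw l₀).eq, mul_inv_cancel_right]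
      rw [h1]
      exact mul_mem (mul_mem (C.rgd.Upos_le_B hu) (C.rgd.H_le_B hh))
        (inv_mem (C.rgd.H_le_B (C.rgd.nw_conj_H l₀ hh)))
    · exact C.rgd.span_conj (A' := {s | ¬ C.rgd.pos s}) (fun r hr y hy => C.rgd.U_le_span
        (A := {s | ¬ C.rgd.pos s}) (fun hp => hl₀ r.1 r.2 hr ((C.pos_ww l₀ r).1 hp))
        (C.rgd.conj_U_mem (C.rgd.map_conj_U l₀ r) hy)) u hu
  obtain ⟨x, hx, rfl⟩ : h ∈ C.H0 := hh
  rw [hu1, one_mul] at hzu
  subst hzu
  refine (mem_ker_theta C.hD hc x).2 fun i => ?_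
  obtain ⟨a, k, -, rfl⟩ := C.nd_surj i
  rw [← C.rk_eq, C.chiX_rk hx]
  have h2 := C.theta_conj_op hx a 1
  rw [(hop a).eq, mul_inv_cancel_right, mul_one, C.op_eq, C.op_eq] at h2
  rw [show chiX x (C.p a) = 1 from Units.ext (C.orb_inj (C.hR.rep_simple a) h2).symm, map_one]

variable (hφ : ∀ t, C.φ (C.φ t) = t)
include hφ

theorem orb_mem_M {r : ℕ} (hr : r ∈ C.T.reps) {t : K} (ht : C.φ t = t) :
    orb C.hD C.T C.φ r t ∈ C.G0 ⊓ C.Rat :=
  ⟨C.orb_mem_G0 hS hr (C.pm_of_len hS hφ hr (Or.inr ht)), (C.orb_rat_iff hr t).2 ht⟩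

omit hS hφ in
theorem nw_mem_M (l : List (Fin C.m)) : C.rgd.nw l ∈ C.G0 ⊓ C.Rat := ⟨C.nw_mem_G0 l, C.nw_rat l⟩

variable {H : Subgroup (GL D.Idx K)} (hH : H ≤ C.G0) (hM : C.G0 ⊓ C.Rat ≤ H)
include hH hM

/-- With one irrational element at r₀ the overgroup contains the whole orbit subgroup. -/
theorem full_top {c : K} (hc : orb C.hD C.T C.φ r₀ c ∈ H) (hirr : C.φ c ≠ c) : C.Full H r₀ := by
  obtain ⟨r, hr, hrl, e, he, hel, -, i, σ, hσ, hstep⟩ := C.top_comm hS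
  obtain ⟨l, hl⟩ := hS.reach r hr
  rw [if_neg (by omega)] at hl
  obtain ⟨-, c', hc', ec⟩ := C.exists_image hS.rzero_rep.1 hl (t := c)
    (by rw [hS.rzero_rep.2.1]; exact hφ c)
  have hc'H : orb C.hD C.T C.φ r c' ∈ H :=
    ec ▸ mul_mem (mul_mem (hM (C.nw_mem_M l)) hc) (inv_mem (hM (C.nw_mem_M l)))
  set d := (σ : K) * (⇑C.φ)^[i] c' with hd
  have hdirr : C.φ d ≠ d := fun h => by
    have h1 := fix_of_sign C.φ hσ h
    rw [← Function.iterate_succ_apply' C.φ i c', Function.iterate_succ_apply] at h1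
    have h2 : orb C.hD C.T C.φ r c' ∈ C.Rat := (C.orb_rat_iff hr c').2 ((C.φ.injective.iterate i) h1)
    rw [← ec] at h2
    exact hirr ((C.orb_rat_iff hS.rzero_rep.1 c).1 (C.conj_rat (C.nw_rat l) h2))
  have hmul : ∀ v, C.φ v = v → orb C.hD C.T C.φ r₀ (v * d) ∈ H := fun v hv => by
    rw [mul_comm]
    refine hstep H (fun q hq _ _ t ht => hM (C.orb_mem_M hS hφ hq ht)) c' v (hrl ▸ hc') hv ?_
    exact mul_mem (mul_mem (mul_mem hc'H (hM (C.orb_mem_M hS hφ he hv))) (inv_mem hc'H))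
      (inv_mem (hM (C.orb_mem_M hS hφ he hv)))
  intro g hg
  obtain ⟨t, -, rfl⟩ := C.mem_Uo hS.rzero_rep.1 hg
  have hne : d - C.φ d ≠ 0 := sub_ne_zero.2 (Ne.symm hdirr)
  set v := (t - C.φ t) / (d - C.φ d) with hv
  have hvd : v * (d - C.φ d) = t - C.φ t := div_mul_cancel₀ _ hne
  have hvf : C.φ v = v := by
    rw [hv, map_div₀, map_sub, map_sub, hφ, hφ, ← neg_sub t, ← neg_sub d, neg_div_neg_eq]
  rw [show t = v * d + (t - v * d) by ring, C.orb_add hS.rzero_rep.1]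
  refine mul_mem (hmul v hvf) (hM (C.orb_mem_M hS hφ hS.rzero_rep.1 ?_))
  rw [map_sub, map_mul, hvf]
  linear_combination hvd

theorem le_of_full (h : C.Full H r₀) : C.G0 ≤ H := by
  have hall : ∀ r ∈ C.T.reps, C.Full H r := by
    intro r hr
    rcases hS.len_le r hr with hl | hl
    · intro g hg
      obtain ⟨t, ht, rfl⟩ := C.mem_Uo hr hg
      exact hM (C.orb_mem_M hS hφ hr (C.fix_of_len_one hl ht))
    · obtain ⟨l, e⟩ := hS.reach r hr
      rw [if_neg (by omega)] at e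
      exact full_nw hS.rzero_rep.1 (hM (C.nw_mem_M l)) h e
  exact G0_le_of_full (fun a => hall _ (C.hR.rep_simple a)) fun a => hall _ (C.hR.rep_negSimple a).1

variable (hno : ∀ c, orb C.hD C.T C.φ r₀ c ∈ H → C.φ c = c)
include hno

/-- A conjugate in the overgroup of a long root element is rational. -/
theorem rat_of_long :
    ∀ a ∈ C.T.reps, C.T.len a = 1 → ∀ u ∈ C.rgd.Upos, ∀ t, C.φ t = t →
      u * gx C.hD K a t * u⁻¹ ∈ H → u * gx C.hD K a t * u⁻¹ ∈ C.Rat := by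
  suffices key : ∀ n : ℕ, ∀ a ∈ C.T.reps, C.T.len a = 1 → 1 ≤ C.T.ht a + n → ∀ u ∈ C.rgd.Upos, ∀ t,
      C.φ t = t → u * gx C.hD K a t * u⁻¹ ∈ H → u * gx C.hD K a t * u⁻¹ ∈ C.Rat from
    fun a ha hal => key (1 - C.T.ht a).toNat a ha hal (by omega)
  intro n
  induction n using Nat.strong_induction_on with
  | _ n ih =>
    intro a ha hal hn u hu t ht hyH
    obtain ⟨halt, -, -, -⟩ := C.hT.rep_lt a ha
    obtain ⟨huU, huF⟩ := C.mem_UT_of_Upos hu
    rcases lt_or_ge 0 (C.T.ht a) with hpos | hnpos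
    · exact C.rat_of_mem_pos hS hφ hH hM hno
        (mul_mem (mul_mem huU (gx_mem_UT C.hD (T := C.posSet) ⟨halt, hpos⟩ t)) (inv_mem huU)) hyH
    rcases eq_or_ne t 0 with rfl | ht0
    · simp [one_mem]
    have haneg : C.T.ht a < 0 := lt_of_le_of_ne hnpos (C.hR.ht_ne a halt)
    obtain ⟨b, hbl, hbh, hR⟩ := hS.raise a ha haneg hal
    have hpb : C.p b ∈ C.posSet := ⟨C.p_lt b, by rw [C.hR.ht_one]; norm_num⟩
    have hu1 : u ∈ C.Lv 1 := C.Lv_one.symm ▸ huU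
    have hpar := C.posSet_ok.coef_mem_par C.hT C.hD C.φ le_rfl (C.hR.rep_simple b) hpb (C.hR.ht_one b) hu1 huF
    -- the coefficient at the simple orbit is rational
    have hcf : C.φ (coef D (C.p b) u) = coef D (C.p b) u := by
      rcases hR with hl1 | ⟨w, hw, hwl, hwp, hwne, hsome, hE⟩
      · exact C.fix_of_len_one hl1 hpar
      obtain ⟨e, htg⟩ := Option.isSome_iff_exists.1 hsome
      have hwlt := (C.hT.rep_lt w hw).1
      obtain ⟨helt, hfe, hcaw⟩ := tgt_spec C.hD C.hT.isLin_ht hS.simply halt hwlt hwne htg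
      obtain ⟨hep, i, hi, hsome', huq, hno'⟩ := hE e helt htg
      obtain ⟨k, hk⟩ := Option.isSome_iff_exists.1 hsome'
      obtain ⟨l, hle⟩ : ∃ l : ℕ, C.T.ht e = l := ⟨(C.T.ht e).toNat, by omega⟩
      obtain ⟨hw', hwh⟩ : ∃ h : ℕ, C.T.ht w = h := ⟨(C.T.ht w).toNat, by omega⟩
      have hp₀ := C.hT.iter_lt (C.p_lt b) i
      have hfp : C.T.ht (C.T.rho^[i] (C.p b)) = (1 : ℕ) := by
        rw [C.hT.ht_iter (C.p_lt b), C.hR.ht_one]; rfl
      have hne : e ≠ D.neg (C.T.rho^[i] (C.p b)) := fun e' => by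
        rw [e', C.hT.ht_neg _ hp₀, hfp] at hle; omega
      obtain ⟨hklt, hfk, hcc⟩ := tgt_spec C.hD C.hT.isLin_ht hS.simply hp₀ helt hne hk
      have hfk' : C.T.ht k = (1 + l : ℕ) := by rw [hfk, hfp, hle]; push_cast; rfl
      set z := gx C.hD K w (1 : K) with hz
      set x := gx C.hD K a t with hx
      set v := (cc D a w : K) * t with hv
      set g₁ := gx C.hD K e v with hg₁
      have hxz : x * z * x⁻¹ = z * g₁ := by
        rw [hx, hz, gx_comm C.hD hS.simply halt hwlt hwne, Wd, htg, hg₁, hv, mul_one]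
      have hzU : z ∈ C.Lv hw' := C.gx_mem_Lv (by omega) hwlt hwh.ge 1
      set Z := u⁻¹ * z * u⁻¹⁻¹ * z⁻¹ with hZ
      have hZ' : Z ∈ C.Lv (hw' + 1) := C.comm_Lv (inv_mem huU) hzU
      obtain ⟨hR0, hR0c⟩ := C.coef_comm_neg hS.simply halt (h := hw' + 1) (l := 1 + l) (by omega)
        (by push_cast; omega) haneg hklt hfk'
        (fun c hc hfc => fun h => hno' c hc (by rw [hfc, hwh]; push_cast; rfl) (by rw [h, hk])) hZ' t
      rw [← hx] at hR0 hR0c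
      have hzu : z * u ∈ C.Lv 1 := mul_mem (lev_anti C.hD C.T.ht C.posSet (by omega) hzU) hu1
      obtain ⟨hc1, hc2⟩ := C.coef_comm hS.simply le_rfl (by omega : 1 ≤ l) helt hle hklt hfk' hp₀ hfp
        (cc D (C.T.rho^[i] (C.p b)) e) (fun _ => rfl) (fun h => absurd hk h)
        (fun p hp hfp' ht' => huq p hp (by rw [hfp']; rfl) (by rw [ht', hk])) hzu v
      rw [← hg₁] at hc1 hc2
      set y := u * x * u⁻¹ with hy
      have hkey : y * z * y⁻¹ * z⁻¹ * g₁⁻¹ =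
          u * (x * Z * x⁻¹ * Z⁻¹) * u⁻¹ * (z * u * g₁ * (z * u)⁻¹ * g₁⁻¹) := by
        rw [show g₁ = z⁻¹ * (x * z * x⁻¹) by rw [hxz, inv_mul_cancel_left], hy, hZ]
        group
      have hQ : y * z * y⁻¹ * z⁻¹ * g₁⁻¹ ∈ C.Lv (1 + l) := hkey ▸ mul_mem (C.conj_mem_Lv huU hR0) hc1
      have hg₁R : g₁ ∈ C.Rat := by
        rw [C.mem_Rat, hg₁, C.frob_gx, hv, map_mul, map_intCast, ht]
      have hzH : z ∈ H := by
        rw [hz, ← C.orb_of_len_one hwl]; exact hM (C.orb_mem_M hS hφ hw (map_one _))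
      have hPH : y * z * y⁻¹ * z⁻¹ ∈ H :=
        mul_mem (mul_mem (mul_mem hyH hzH) (inv_mem hyH)) (inv_mem hzH)
      have hPU : y * z * y⁻¹ * z⁻¹ ∈ UT C.hD K C.posSet := by
        have := mul_mem (C.Lv_le hQ) (gx_mem_UT C.hD (T := C.posSet) ⟨helt, hep⟩ v)
        rwa [← hg₁, inv_mul_cancel_right] at this
      have h3 := C.coef_rat (mul_mem (C.rat_of_mem_pos hS hφ hH hM hno hPU hPH) (inv_mem hg₁R)) k
      rw [hkey, C.coef_add (by omega) hklt hfk' (C.conj_mem_Lv huU hR0) hc1,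
        C.coef_conj (by omega) hklt hfk' huU hR0, hR0c, zero_add, hc2,
        C.coef_add le_rfl hp₀ hfp (lev_anti C.hD C.T.ht C.posSet (by omega) hzU) hu1, hz,
        coef_gx C.hD C.hT.isLin_ht hp₀ hwlt (by rw [hfp]; norm_num) (by rw [hfp]; push_cast; omega),
        C.rhocoef (C.hR.rep_simple b) le_rfl (C.hR.ht_one b) hu1 huF, map_mul] at h3
      have hvne : v ≠ 0 := by
        refine mul_ne_zero (fun h => ?_) ht0
        have h4 := congrArg (Int.cast : ℤ → K) hcaw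
        simp [h] at h4
      have hvφ : C.φ v = v := by rw [hv, map_mul, map_intCast, ht]
      rw [hvφ] at h3
      have h4 := fix_of_sign C.φ hcc (mul_right_cancel₀ hvne h3)
      refine C.cf_fix (C.hR.rep_simple b) (i := i) ?_
      rw [map_add] at h4
      split_ifs at h4 with hwp₀ <;> simpa using h4
    -- move the root up
    set c := coef D (C.p b) u with hc
    obtain ⟨k, hk, o, ho, eu⟩ := C.rgd.exists_Upos (i := b) (inv_mem hu)
    obtain ⟨c', hc', rfl⟩ := C.mem_Uo (C.hR.rep_simple b) ho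
    have hkU := (C.mem_UT_of_Upos (C.rgd.Udel_le_Upos b hk)).1
    have hkL : k ∈ C.Lv 1 := C.Lv_one.symm ▸ hkU
    have hoL : orb C.hD C.T C.φ (C.p b) c' ∈ C.Lv 1 :=
      C.posSet_ok.orb_mem_lev C.hT C.hD C.φ hpb (by rw [C.hR.ht_one]; rfl) _
    have hcc' : c' = -c := by
      have h1 := C.coef_add le_rfl (C.p_lt b) (C.hR.ht_one b) (inv_mem hu1) hu1
      rw [inv_mul_cancel, coef_one, eu, C.coef_add le_rfl (C.p_lt b) (C.hR.ht_one b) hkL hoL,
        C.coef_Udel b hk, C.coef_op, zero_add, ← hc] at h1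
      exact eq_neg_of_add_eq_zero_left h1.symm
    set o := orb C.hD C.T C.φ (C.p b) c' with ho'
    have hoM : o ∈ C.G0 ⊓ C.Rat :=
      C.orb_mem_M hS hφ (C.hR.rep_simple b) (by rw [hcc', map_neg, hcf])
    have hnM : C.rgd.n b ∈ C.G0 ⊓ C.Rat := by simpa using C.nw_mem_M [b]
    have hg := mul_mem hnM hoM
    set a' : C.Orb := C.rgd.w b ⟨a, ha⟩ with ha'
    have hma : C.rgd.n b * gx C.hD K a t * (C.rgd.n b)⁻¹ ∈ C.Uo a'.1 := by
      refine C.rgd.n_conj_U b ⟨a, ha⟩ _ ?_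
      rw [← C.orb_of_len_one hal]
      exact C.orb_mem_Uo ha (by rw [hal]; exact ht)
    obtain ⟨t', ht', et⟩ := C.mem_Uo a'.2 hma
    have hlen' : C.T.len a'.1 = 1 := hbl
    have hht' : C.T.ht a'.1 = C.T.ht (wF C.T (C.node b) a) := C.ht_repOf (C.wF_lt b halt)
    rw [C.orb_of_len_one hlen'] at et
    have hu' := C.rgd.n_conj_Udel b _ (inv_mem hk)
    have econ : C.rgd.n b * o * (u * gx C.hD K a t * u⁻¹) * (C.rgd.n b * o)⁻¹ =
        C.rgd.n b * k⁻¹ * (C.rgd.n b)⁻¹ * gx C.hD K a'.1 t' *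
          (C.rgd.n b * k⁻¹ * (C.rgd.n b)⁻¹)⁻¹ := by
      rw [← et, show u = (k * o)⁻¹ by rw [← eu, inv_inv]]
      group
    refine C.conj_rat hg.2 (econ ▸ ih (1 - C.T.ht a'.1).toNat (by omega) a'.1 a'.2 hlen' (by omega) _
      (C.rgd.Udel_le_Upos b hu') t' (C.fix_of_len_one hlen' ht') ?_)
    rw [← econ]
    exact mul_mem (mul_mem (hM hg) hyH) (inv_mem (hM hg))

/-- Without an irrational element at r₀ the overgroup is rational. -/
theorem le_rat
    (hcar : ∀ s < D.nroots, ∀ j : Fin D.rank, D.cartan j.val s =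
      ∑ k : Fin D.rank, (D.coroot.getD s #[]).getD k.val 0 * D.cartan j.val (D.simple k.val)) :
    H ≤ C.Rat := by
  intro h hh
  obtain ⟨hθ, hθl, -⟩ := hS.theta_rep
  let Nc : Subgroup (GL D.Idx K) :=
    Subgroup.closure {y | ∃ g ∈ C.G0 ⊓ C.Rat, ∃ t, C.φ t = t ∧ y = g * gx C.hD K θ t * g⁻¹}
  have hconj : ∀ g ∈ C.G0 ⊓ C.Rat, ∀ y ∈ Nc, g * y * g⁻¹ ∈ Nc := fun g hg => by
    have h1 : Nc ≤ Nc.comap (MulAut.conj g).toMonoidHom := by
      refine (Subgroup.closure_le _).2 ?_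
      rintro _ ⟨f, hf, t, ht, rfl⟩
      exact Subgroup.subset_closure ⟨g * f, mul_mem hg hf, t, ht, by
        show g * (f * gx C.hD K θ t * f⁻¹) * g⁻¹ = _
        group⟩
    exact fun y hy => h1 hy
  have hlong : ∀ r ∈ C.T.reps, C.T.len r = 1 → ∀ t, C.φ t = t → orb C.hD C.T C.φ r t ∈ Nc := by
    intro r hr hl t ht
    obtain ⟨l, e⟩ := hS.reach r hr
    rw [if_pos hl] at e
    refine C.orb_image (hconj _ (C.nw_mem_M l)) hθ e (fun v _ hv => ?_) (by rw [hl]; exact ht) ht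
    exact Subgroup.subset_closure ⟨1, one_mem _, v, hv, by rw [C.orb_of_len_one hθl]; group⟩
  obtain ⟨r, hr, hrl, e, he, hel, hep, i, σ, hσ, hstep⟩ := C.top_comm hS
  have hr₀ : ∀ t, C.φ t = t → orb C.hD C.T C.φ r₀ t ∈ Nc := by
    intro t ht
    have hv : C.φ ((σ : K) * t) = (σ : K) * t := by rw [map_mul, map_intCast, ht]
    have h1 := hlong e he hel _ hv
    have := hstep Nc (fun q hq _ hq1 v hv => hlong q hq hq1 v hv) 1 ((σ : K) * t)
      (by rw [← RingHom.coe_pow, map_one]) hv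
      (mul_mem (hconj _ (C.orb_mem_M hS hφ hr (map_one _)) _ h1) (inv_mem h1))
    rwa [← RingHom.coe_pow, map_one, mul_one, ← mul_assoc, ← Int.cast_mul, hσ, Int.cast_one, one_mul] at this
  have hall : ∀ r ∈ C.T.reps, ∀ t, C.φ t = t → orb C.hD C.T C.φ r t ∈ Nc := by
    intro r hr t ht
    rcases hS.len_le r hr with hl | hl
    · exact hlong r hr hl t ht
    · obtain ⟨l, e⟩ := hS.reach r hr
      rw [if_neg (by omega)] at e
      exact C.orb_image (hconj _ (C.nw_mem_M l)) hS.rzero_rep.1 e (fun v _ hv => hr₀ v hv)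
        (by rw [hl]; exact hφ t) ht
  set z := (C.frob h)⁻¹ * h with hz
  have hzG : z ∈ C.G0 := mul_mem (inv_mem (C.frob_mem_G0 (hH hh))) (hH hh)
  have hcent : Nc ≤ Subgroup.centralizer {z} := by
    refine (Subgroup.closure_le _).2 ?_
    rintro _ ⟨g, hg, t, ht, rfl⟩
    rw [SetLike.mem_coe, Subgroup.mem_centralizer_singleton_iff]
    set X := g * gx C.hD K θ t * g⁻¹ with hX
    have hXM : X ∈ C.G0 ⊓ C.Rat := by
      rw [hX, ← C.orb_of_len_one hθl]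
      exact mul_mem (mul_mem hg (C.orb_mem_M hS hφ hθ ht)) (inv_mem hg)
    have hyH : h * X * h⁻¹ ∈ H := mul_mem (mul_mem hh (hM hXM)) (inv_mem hh)
    obtain ⟨a, ha, hal, u, hu, t', ht', e1⟩ := C.conj_theta hS (mul_mem (hH hh) hg.1) ht
    have e2 : h * X * h⁻¹ = u * gx C.hD K a t' * u⁻¹ := by
      rw [← e1, hX]; group
    have hy : h * X * h⁻¹ ∈ C.Rat := by
      rw [e2]; exact C.rat_of_long hS hφ hH hM hno a ha hal u hu t' ht' (e2 ▸ hyH)
    have h5 : C.frob h * X * (C.frob h)⁻¹ = h * X * h⁻¹ := by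
      have := C.mem_Rat.1 hy
      rwa [map_mul, map_mul, map_inv, C.mem_Rat.1 hXM.2] at this
    calc X * z = (C.frob h)⁻¹ * (C.frob h * X * (C.frob h)⁻¹) * h := by rw [hz]; group
      _ = z * X := by rw [h5, hz]; group
  have h6 : z = 1 := C.eq_one_of_comm hS hcar hzG fun r hr t ht =>
    (Subgroup.mem_centralizer_singleton_iff.1 (hcent (hall r hr t ht))).symm
  rw [C.mem_Rat]
  exact inv_mul_eq_one.1 h6

omit hH hM hno in
/-- The rational points form a proper maximal subgroup. -/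
theorem subfield_maximal (hne : ∃ c, C.φ c ≠ c)
    (hcar : ∀ s < D.nroots, ∀ j : Fin D.rank, D.cartan j.val s =
      ∑ k : Fin D.rank, (D.coroot.getD s #[]).getD k.val 0 * D.cartan j.val (D.simple k.val)) :
    C.G0 ⊓ C.Rat ≠ C.G0 ∧
      ∀ H : Subgroup (GL D.Idx K), C.G0 ⊓ C.Rat ≤ H → H ≤ C.G0 → H = C.G0 ⊓ C.Rat ∨ H = C.G0 := by
  refine ⟨fun h => ?_, fun H hM hH => ?_⟩
  · obtain ⟨c, hc⟩ := hne
    obtain ⟨h1, h2, -⟩ := hS.rzero_rep
    have h3 : orb C.hD C.T C.φ r₀ c ∈ C.G0 ⊓ C.Rat := by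
      rw [h]; exact C.orb_mem_G0 hS h1 (C.pm_of_len hS hφ h1 (Or.inl h2))
    exact hc ((C.orb_rat_iff h1 c).1 h3.2)
  · by_cases hno : ∀ c, orb C.hD C.T C.φ r₀ c ∈ H → C.φ c = c
    · exact Or.inl (le_antisymm (le_inf hH (C.le_rat hS hφ hH hM hno hcar)) hM)
    · push Not at hno
      obtain ⟨c, hc, hirr⟩ := hno
      exact Or.inr (le_antisymm hH (C.le_of_full hS hφ hH hM (C.full_top hS hφ hH hM hc hirr)))

end Ctx

end Cfsg.Agent.TwistE6D4
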