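/-
The table conditions for ²E₆ (θ = 71, r₀ = 66) and the maximality of its rational points.

* `e6Reach`: words carrying θ or r₀ to the representatives.
* `e6_subOK`; `subfield_maximal_E6`.
-/
import Cfsg.Agent.Lib.TwistSubfield.Maximal
import Cfsg.Agent.Lib.TwistE6D4.Results

set_option autoImplicit false
set_option maxRecDepth 100000
set_option synthInstance.maxSize 10000
set_option synthInstance.maxHeartbeats 400000

namespace Cfsg.Agent.TwistE6D4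

open Cfsg.Lie Cfsg.Lie.ChevalleyDatum Cfsg.Agent.Chev

/-- For each representative, a word carrying θ or r₀ to it. -/
def e6Reach : List (ℕ × List (Fin 4)) :=
  [(56, [2, 1, 0, 2, 1, 2, 3]), (46, [1, 2, 1, 3, 2, 1, 0]), (42, [1, 0, 3, 2, 1, 2, 3]), (39, [0, 2, 1, 3, 2, 1, 0]),
    (15, [3, 2, 1, 0, 2, 1, 2, 3]), (25, [0, 1, 2, 1, 3, 2, 1, 0]), (29, [2, 1, 0, 3, 2, 1, 2, 3]),
    (32, [1, 0, 2, 1, 3, 2, 1, 0]), (0, [0, 1, 2, 1, 0, 3, 2, 1, 0, 2, 1, 3, 2, 1, 0]),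
    (1, [1, 2, 1, 0, 3, 2, 1, 0, 2, 1, 3, 2, 1, 0]), (2, [2, 1, 0, 3, 2, 1, 0, 2, 1, 3, 2, 1, 0]),
    (3, [3, 2, 1, 0, 2, 1, 2, 3, 2, 1, 0, 2, 1, 2, 3]), (4, [2, 1, 0, 2, 1, 2, 3, 2, 1, 0, 2, 1, 2, 3]),
    (6, [1, 0, 3, 2, 1, 0, 2, 1, 3, 2, 1, 0]), (7, [1, 0, 2, 1, 2, 3, 2, 1, 0, 2, 1, 2, 3]),
    (8, [0, 3, 2, 1, 0, 2, 1, 3, 2, 1, 0]), (9, [0, 2, 1, 2, 3, 2, 1, 0, 2, 1, 2, 3]),
    (10, [0, 1, 2, 3, 2, 1, 0, 2, 1, 2, 3]), (11, [3, 2, 1, 0, 2, 1, 3, 2, 1, 0]),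
    (12, [2, 1, 2, 3, 2, 1, 0, 2, 1, 2, 3]), (13, [1, 2, 3, 2, 1, 0, 2, 1, 2, 3]), (14, [2, 3, 2, 1, 0, 2, 1, 2, 3]),
    (18, [1, 0, 2, 1, 0, 2, 1, 3, 2, 1, 0]), (20, [0, 2, 1, 0, 2, 1, 3, 2, 1, 0]), (21, [0, 1, 2, 1, 0, 3, 2, 1, 2, 3]),
    (24, [0, 1, 0, 2, 1, 3, 2, 1, 0]), (27, [2, 1, 0, 2, 1, 3, 2, 1, 0]), (28, [1, 2, 1, 0, 3, 2, 1, 2, 3]),
    (38, [1, 0, 2, 1, 2, 3]), (40, [0, 3, 2, 1, 2, 3]), (41, [0, 2, 1, 2, 3]), (44, [0, 1, 3, 2, 1, 0]),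
    (45, [0, 1, 2, 3]), (47, [2, 1, 3, 2, 1, 0]), (48, [3, 2, 1, 2, 3]), (49, [2, 1, 2, 3]), (51, [1, 3, 2, 1, 0]),
    (52, [1, 2, 3]), (53, [3, 2, 1, 0]), (54, [2, 3]), (55, [3]), (60, [0, 1, 2, 1, 0]), (63, [1, 2, 1, 0]),
    (65, [2, 1, 0]), (66, []), (69, [1, 0]), (70, [0]), (71, [])]

theorem e6_simply : Simply chevE6 := by unfold Simply; decide +kernel

theorem e6Reach_ok : ∀ p ∈ e6Reach,
    repT e6Twist (wW e6Twist e6Node p.2 (if e6Twist.len p.1 = 1 then 71 else 66)) = p.1 := by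
  decide +kernel

theorem e6Reach_all : ∀ r ∈ e6Twist.reps, r ∈ e6Reach.map Prod.fst := by decide +kernel

theorem e6_subOK : SubOK e6Twist e6Node 71 66 where
  simply := e6_simply
  theta_rep := by decide +kernel
  theta_max := by decide +kernel
  rzero_rep := by decide +kernel
  len_le := by decide +kernel
  top := by decide +kernel
  push := by decide +kernel
  step := by decide +kernel
  raise := by decide +kernel
  reach r hr := by
    obtain ⟨p, hp, rfl⟩ := List.mem_map.1 (e6Reach_all r hr)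
    exact ⟨p.2, e6Reach_ok p hp⟩
  negW := ⟨_, e6_long⟩

/-- The points over the subfield form a proper maximal subgroup of ²E₆(q). -/
theorem subfield_maximal_E6 {K : Type*} [Field K] [Fintype K] (hD : Good chevE6) {q : ℕ} (hq : IsPrimePow q)
    (hK : Fintype.card K = q ^ 2) (M : Subgroup (GL chevE6.Idx K))
    (hM : ∀ g : GL chevE6.Idx K, g ∈ M ↔ g ∈ twistedE6 K q ∧
      ∀ i j : chevE6.Idx, ((g : Matrix chevE6.Idx chevE6.Idx K) i j) ^ q =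
        (g : Matrix chevE6.Idx chevE6.Idx K) i j) :
    M ≠ twistedE6 K q ∧
      ∀ H : Subgroup (GL chevE6.Idx K), M ≤ H → H ≤ twistedE6 K q → H = M ∨ H = twistedE6 K q := by
  obtain ⟨φ, e, h⟩ := exists_ctxE6 hD hq hK
  set C := ctxE6 hD φ
  have hφ : ∀ t, C.φ (C.φ t) = t := fun t => by
    rw [h.pow, h.pow, ← pow_mul, ← pow_two, ← hK, FiniteField.pow_card]
  have hne : ∃ c, C.φ c ≠ c := by
    by_contra hall
    push Not at hall
    obtain ⟨g, hg⟩ := IsCyclic.exists_generator (α := Kˣ)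
    have h1 : g ^ (q - 1) = 1 := Units.ext (by
      have h2 : (g : K) ^ q = g := (h.pow g).symm.trans (hall g)
      have h3 : (g : K) ^ (q - 1) * g = 1 * g := by
        rw [← pow_succ, Nat.sub_add_cancel hq.one_lt.le, h2, one_mul]
      simpa using mul_right_cancel₀ g.ne_zero h3)
    rw [← orderOf_dvd_iff_pow_eq_one, orderOf_eq_card_of_forall_mem_zpowers hg, Nat.card_units,
      Nat.card_eq_fintype_card, hK] at h1
    have h2 := Nat.le_of_dvd (by have := hq.two_le; omega) h1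
    have h3 : q * 2 ≤ q ^ 2 := by rw [pow_two]; exact Nat.mul_le_mul_left q hq.two_le
    have := hq.two_le
    omega
  have hMeq : M = C.G0 ⊓ C.Rat := by
    ext g
    rw [hM, e, Subgroup.mem_inf, C.mem_Rat_iff]
    simp only [h.pow]
  rw [hMeq, e]
  exact C.subfield_maximal e6_subOK hφ hne e6_cartan

end Cfsg.Agent.TwistE6D4
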